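import Cfsg.Agent.J4Main61.Linear
import Cfsg.Agent.J4Index22.CardM
import Cfsg.Agent.J4Index22.Index
import Cfsg.Prelude.Def_Sporadic

/-!
The presented fourth Janko group: order, index of the monomial subgroup, simplicity, faithfulness.
-/

set_option autoImplicit false
set_option maxRecDepth 100000

namespace CfsgLib.J4Main61

open Cfsg.Spor

theorem bigM_eq : CfsgLib.J4Index22.bigM = M := subgroup_eq_M

theorem subM_eq : CfsgLib.J4Index22.subM = M := subgroup_eq_M

theorem M_facts : M.FiniteIndex ∧ M.index ≤ idx ∧ Finite M ∧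
    Nat.card M ≤ 2 ^ 11 * 244823040 := by
  obtain ⟨h1, h2⟩ := CfsgLib.J4Index22.index_le
  obtain ⟨h3, h4⟩ := CfsgLib.J4Index22.card_M_le
  rw [bigM_eq] at h1 h2
  rw [subM_eq] at h3 h4
  exact ⟨h1, h2, h3, h4⟩

/-- the presented group is finite -/
theorem finite : Finite J4 := finite_J4 M_facts.1 M_facts.2.2.1

/-- the representation is faithful -/
theorem faithful : Function.Injective CfsgLib.J4Rep112.rep :=
  rep_injective M_facts.1 M_facts.2.1 M_facts.2.2.1 M_facts.2.2.2

/-- the monomial subgroup has index 173067389 -/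
theorem index_M : M.index = 173067389 :=
  (index_card_M M_facts.1 M_facts.2.1 M_facts.2.2.1 M_facts.2.2.2).1

/-- the presented group has the order of the fourth Janko group -/
theorem card_eq : Nat.card J4 = 86775571046077562880 :=
  (card_J4 M_facts.1 M_facts.2.1 M_facts.2.2.1 M_facts.2.2.2).trans order_eq

/-- the presented group is simple of the order of the fourth Janko group -/
theorem isJ4 : Cfsg.IsJ4 J4 := by
  haveI := finite
  exact ⟨isSimple_J4 faithful (card_J4 M_facts.1 M_facts.2.1 M_facts.2.2.1 M_facts.2.2.2), card_eq⟩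

end CfsgLib.J4Main61
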