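import Cfsg.Agent.J4Main61.Coprime
import Mathlib.GroupTheory.Coset.Card
import Mathlib.GroupTheory.Index
import Mathlib.GroupTheory.Perm.Cycle.Type

/-!
Simplicity of a group of the order of the fourth Janko group from a subgroup `E K`, `E` elementary
abelian of order `2 ^ 11`, `K` simple of order 244823040.
-/

set_option autoImplicit false

namespace CfsgLib.J4Main61

open scoped Pointwise

variable {G : Type*} [Group G]

theorem card_sup_le [Finite G] {A B : Subgroup G} (h : B ≤ Subgroup.normalizer (A : Set G)) :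
    Nat.card (A ⊔ B : Subgroup G) ≤ Nat.card A * Nat.card B := by
  rw [← Nat.card_prod]
  have hc := Subgroup.coe_mul_of_right_le_normalizer_left A B h
  refine Nat.card_le_card_of_surjective
    (fun p : A × B => (⟨p.1.1 * p.2.1, Subgroup.mul_mem_sup p.1.2 p.2.2⟩ : (A ⊔ B : Subgroup G))) ?_
  rintro ⟨g, hg⟩
  rw [← SetLike.mem_coe, hc] at hg
  obtain ⟨a, ha, b, hb, rfl⟩ := Set.mem_mul.1 hg
  exact ⟨(⟨a, ha⟩, ⟨b, hb⟩), rfl⟩

theorem card_sup_eq {A B : Subgroup G} (h : B ≤ Subgroup.normalizer (A : Set G))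
    (hd : Disjoint A B) : Nat.card (A ⊔ B : Subgroup G) = Nat.card A * Nat.card B := by
  rw [← Nat.card_prod]
  have hc := Subgroup.coe_mul_of_right_le_normalizer_left A B h
  refine (Nat.card_congr (Equiv.ofBijective (fun p : A × B =>
    (⟨p.1.1 * p.2.1, Subgroup.mul_mem_sup p.1.2 p.2.2⟩ : (A ⊔ B : Subgroup G))) ⟨?_, ?_⟩)).symm
  · intro p q hpq
    exact Subgroup.mul_injective_of_disjoint hd (congrArg Subtype.val hpq)
  · rintro ⟨g, hg⟩
    rw [← SetLike.mem_coe, hc] at hg
    obtain ⟨a, ha, b, hb, rfl⟩ := Set.mem_mul.1 hg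
    exact ⟨(⟨a, ha⟩, ⟨b, hb⟩), rfl⟩

theorem coprime_idx : Nat.Coprime idx 2048 := by norm_num [idx]

section
variable [Finite G] {K E : Subgroup G} [IsSimpleGroup K]
  (hKE : K ≤ Subgroup.normalizer (E : Set G))
  (hEcard : Nat.card E = 2048) (hKcard : Nat.card K = 244823040)
  (hdisj : Disjoint E K) (hG : Nat.card G = idx * (2048 * 244823040))

include hKcard in
theorem exists_k23 : ∃ k : K, k ^ 23 = 1 ∧ k ≠ 1 := by
  haveI : Fact (Nat.Prime 23) := ⟨by norm_num⟩
  obtain ⟨k, hk⟩ := exists_prime_orderOf_dvd_card' (G := K) 23 (by rw [hKcard]; norm_num)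
  refine ⟨k, by rw [← hk]; exact pow_orderOf_eq_one k, fun e => ?_⟩
  rw [e, orderOf_one] at hk
  norm_num at hk

include hKE hEcard hKcard hdisj hG in
/-- a normal subgroup meeting `E K` trivially is centralised by `K` -/
theorem centralized_of_disjoint {N : Subgroup G} [hN : N.Normal] (hd : Disjoint N (E ⊔ K)) :
    ∀ k ∈ K, ∀ z ∈ N, k * z = z * k := by
  have hc : Nat.card N ∣ idx := by
    have h := Subgroup.card_subgroup_dvd_card (N ⊔ (E ⊔ K))
    rw [card_sup_eq Subgroup.le_normalizer_of_normal hd, card_sup_eq hKE hdisj, hEcard, hKcard,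
      hG] at h
    exact Nat.dvd_of_mul_dvd_mul_right (by norm_num) h
  obtain ⟨k₀, h1, h2⟩ := exists_k23 hKcard
  intro k hk z hz
  exact commute_of_normalizes K.subtype h1 h2 hc
    (fun k => Subgroup.le_normalizer_of_normal (K := ⊤) (Subgroup.mem_top _)) ⟨k, hk⟩ z hz

include hKE hEcard hKcard hdisj in
/-- a normal subgroup meeting `K` trivially meets `E K` inside `E` -/
theorem inf_le_E {N : Subgroup G} [hN : N.Normal] (hd : Disjoint N K) : N ⊓ (E ⊔ K) ≤ E := by
  set M := E ⊔ K with hM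
  have hcM : Nat.card M = 2048 * 244823040 := by rw [hM, card_sup_eq hKE hdisj, hEcard, hKcard]
  set D := N ⊓ M
  have hnD : M ≤ Subgroup.normalizer (D : Set G) := by
    intro m hm
    rw [Subgroup.mem_normalizer_iff]
    intro g
    have e1 : g ∈ N ↔ m * g * m⁻¹ ∈ N := ⟨fun h => hN.conj_mem g h m, fun h => by
      have := hN.conj_mem _ h m⁻¹; simpa [mul_assoc] using this⟩
    have e2 : g ∈ M ↔ m * g * m⁻¹ ∈ M := by
      rw [M.mul_mem_cancel_right (M.inv_mem hm), M.mul_mem_cancel_left hm]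
    exact and_congr e1 e2
  have hKM : K ≤ M := le_sup_right
  have hEM : E ≤ M := le_sup_left
  have hDle : Nat.card D ≤ 2048 := by
    have h1 : Nat.card D * Nat.card K ≤ Nat.card M := by
      rw [← card_sup_eq (hKM.trans hnD) (hd.mono_left inf_le_left)]
      exact Subgroup.card_le_of_le (sup_le inf_le_right hKM)
    rw [hcM, hKcard] at h1
    exact Nat.le_of_mul_le_mul_right h1 (by norm_num)
  let T : Subgroup G := D ⊔ E
  have hKT : K ≤ Subgroup.normalizer (T : Set G) := by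
    intro k hk
    rw [Subgroup.mem_normalizer_iff_map_conj_eq, Subgroup.map_sup]
    rw [Subgroup.mem_normalizer_iff_map_conj_eq.1 (hnD (hKM hk)),
      Subgroup.mem_normalizer_iff_map_conj_eq.1 (hKE hk)]
  haveI : (T.subgroupOf K).Normal := by
    refine ⟨fun a ha k => ?_⟩
    exact (Subgroup.mem_normalizer_iff.1 (hKT k.2) _).1 ha
  rcases (inferInstance : (T.subgroupOf K).Normal).eq_bot_or_eq_top with h | h
  · intro g hg
    have hgM : g ∈ (↑(E ⊔ K) : Set G) := hg.2
    rw [Subgroup.coe_mul_of_right_le_normalizer_left E K hKE] at hgM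
    obtain ⟨a, ha, k, hk, rfl⟩ := Set.mem_mul.1 hgM
    have hkT : k ∈ T := by
      have : a⁻¹ * (a * k) ∈ T :=
        T.mul_mem (le_sup_right (a := D) (E.inv_mem ha)) (le_sup_left (b := E) hg)
      simpa using this
    have : (⟨k, hk⟩ : K) = 1 := Subgroup.mem_bot.1 (h ▸ (show (⟨k, hk⟩ : K) ∈ T.subgroupOf K from hkT))
    rw [show k = 1 from congrArg Subtype.val this, mul_one]
    exact ha
  · exfalso
    have hKT' : K ≤ T := Subgroup.subgroupOf_eq_top.1 h
    have hMT : M ≤ T := sup_le le_sup_right hKT'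
    have h1 := (Subgroup.card_le_of_le hMT).trans (card_sup_le (hEM.trans hnD))
    rw [hcM, hEcard] at h1
    have := h1.trans (Nat.mul_le_mul_right _ hDle)
    norm_num at this

variable (hcomm : ∀ a ∈ E, ∀ b ∈ E, a * b = b * a)
  (hgen : ∀ N : Subgroup G, N.Normal → K ≤ N → N = ⊤)
  (hcent : ∀ N : Subgroup G, N.Normal → (∀ k ∈ K, ∀ z ∈ N, k * z = z * k) → N = ⊥)
  (hirr : ∀ D : Subgroup G, D ≤ E → D ≠ ⊥ → (∀ k ∈ K, ∀ d ∈ D, k * d * k⁻¹ ∈ D) → E ≤ D)
  (hfix : ∀ y ∈ Subgroup.normalizer (E : Set G),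
    (∀ k ∈ K, ∀ v ∈ E, y * (k * v * k⁻¹) * y⁻¹ = k * (y * v * y⁻¹) * k⁻¹) →
    ∀ v ∈ E, y * v * y⁻¹ = v)
  (hEn : ¬ E.Normal)

include hKE hEcard hKcard hdisj hG hcomm hcent hfix hEn in
/-- no normal subgroup meets `E K` in `E` -/
theorem not_inf_eq_E {N : Subgroup G} [hN : N.Normal] (hE : N ⊓ (E ⊔ K) = E) : False := by
  have hEN : E ≤ N := hE ▸ inf_le_left
  have hd : Disjoint N K := by
    rw [disjoint_iff_inf_le]
    exact fun g hg => hdisj.le_bot ⟨hE ▸ ⟨hg.1, le_sup_right (a := E) hg.2⟩, hg.2⟩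
  obtain ⟨d, hd'⟩ : ∃ d, Nat.card N = 2048 * d :=
    hEcard ▸ Subgroup.card_dvd_of_le hEN
  have hdi : d ∣ idx := by
    have h := Subgroup.card_subgroup_dvd_card (N ⊔ K)
    rw [card_sup_eq Subgroup.le_normalizer_of_normal hd, hd', hKcard, hG, ← mul_assoc idx,
      mul_comm idx 2048] at h
    exact Nat.dvd_of_mul_dvd_mul_left (by norm_num : 0 < 2048)
      (Nat.dvd_of_mul_dvd_mul_right (by norm_num) h)
  have hd0 : d ≠ 0 := fun e => by rw [e, zero_dvd_iff] at hdi; norm_num [idx] at hdi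
  have hcop : Nat.Coprime d 2048 := coprime_idx.coprime_dvd_left hdi
  haveI : Fact (Nat.Prime 2) := ⟨Nat.prime_two⟩
  let P : Sylow 2 N := Sylow.ofCard (E.subgroupOf N) (by
    rw [Nat.card_congr (Subgroup.subgroupOfEquivOfLe hEN).toEquiv, hEcard, hd',
      show (2048 : ℕ) = 2 ^ 11 by norm_num, Nat.factorization_mul (by norm_num) hd0]
    have h2 : ¬ 2 ∣ d := fun h => by
      have := hcop.coprime_dvd_left h; norm_num at this
    rw [Finsupp.add_apply, Nat.prime_two.factorization_pow, Finsupp.single_eq_same,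
      Nat.factorization_eq_zero_of_not_dvd h2])
  have hP : (P : Subgroup N) = E.subgroupOf N := rfl
  -- the normaliser of `E` in `N` centralises `E`
  let φ := E.normalizerMonoidHom
  let Y : Subgroup G := N ⊓ Subgroup.normalizer (E : Set G)
  let X : Subgroup (MulAut E) := (Y.subgroupOf (Subgroup.normalizer (E : Set G))).map φ
  have hEY : E ≤ Y := le_inf hEN Subgroup.le_normalizer
  have hX : Nat.card X ∣ idx := by
    let f : Y →* MulAut E := φ.comp (Subgroup.inclusion inf_le_right)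
    have hr : f.range = X := by
      ext a
      constructor
      · rintro ⟨g, rfl⟩
        exact ⟨⟨g.1, g.2.2⟩, g.2, rfl⟩
      · rintro ⟨g, hg, rfl⟩
        exact ⟨⟨g.1, hg⟩, rfl⟩
    have hk : E.subgroupOf Y ≤ f.ker := by
      intro g hg
      refine MonoidHom.mem_ker.2 (MulEquiv.ext fun v => Subtype.ext ?_)
      show (g : G) * v * (g : G)⁻¹ = v
      rw [hcomm (g : G) hg (v : G) v.2, mul_inv_cancel_right]
    rw [← hr, ← Subgroup.index_ker]
    refine (Subgroup.index_dvd_of_le hk).trans (dvd_trans ?_ hdi)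
    show E.relIndex Y ∣ d
    have h1 : E.relIndex Y * Y.relIndex N = E.relIndex N :=
      Subgroup.relIndex_mul_relIndex E Y N hEY inf_le_left
    have h2 : E.relIndex N = d := by
      have := Subgroup.index_mul_card (E.subgroupOf N)
      rw [Nat.card_congr (Subgroup.subgroupOfEquivOfLe hEN).toEquiv, hEcard, hd',
        mul_comm 2048] at this
      exact Nat.eq_of_mul_eq_mul_right (by norm_num) this
    exact h2 ▸ h1 ▸ dvd_mul_right _ _
  obtain ⟨k₀, h1, h2⟩ := exists_k23 hKcard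
  have hXn : ∀ k : K, φ ⟨k.1, hKE k.2⟩ ∈ Subgroup.normalizer (X : Set (MulAut E)) := by
    intro k
    refine Subgroup.mem_normalizer_fintype fun a ha => ?_
    obtain ⟨g, hg, rfl⟩ := ha
    refine ⟨⟨k.1, hKE k.2⟩ * g * ⟨k.1, hKE k.2⟩⁻¹, ?_, by simp⟩
    exact ⟨hN.conj_mem _ hg.1 k.1, Subgroup.mul_mem _ (Subgroup.mul_mem _ (hKE k.2) g.2)
      (Subgroup.inv_mem _ (hKE k.2))⟩
  have hYC : ∀ y ∈ Y, ∀ v ∈ E, y * v * y⁻¹ = v := by
    intro y hy
    refine hfix y hy.2 fun k hk v hv => ?_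
    have h := commute_of_normalizes (φ.comp (Subgroup.inclusion hKE)) h1 h2 hX hXn ⟨k, hk⟩
      (φ ⟨y, hy.2⟩) ⟨⟨y, hy.2⟩, hy, rfl⟩
    exact (congrArg Subtype.val (DFunLike.congr_fun h ⟨v, hv⟩)).symm
  have hPC : Subgroup.normalizer ((P : Subgroup N) : Set N) ≤
      Subgroup.centralizer ((P : Subgroup N) : Set N) := by
    intro y hy
    have hyY : (y : G) ∈ Y := ⟨y.2, Subgroup.mem_normalizer_iff.2 fun v => by
      constructor
      · intro hv
        exact (Subgroup.mem_normalizer_iff.1 hy ⟨v, hEN hv⟩).1 hv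
      · intro hv
        have hvN : v ∈ N := by
          have := hN.conj_mem _ (hEN hv) (y : G)⁻¹; simpa [mul_assoc] using this
        exact (Subgroup.mem_normalizer_iff.1 hy ⟨v, hvN⟩).2 hv⟩
    rw [Subgroup.mem_centralizer_iff]
    intro v hv
    refine Subtype.ext ?_
    have := hYC y hyY v hv
    show (v : G) * y = y * v
    nth_rw 1 [← this]
    group
  have hc := MonoidHom.ker_transferSylow_isComplement' P hPC
  set Kn := (MonoidHom.transferSylow P hPC).ker
  have hKn : Nat.card Kn = d := by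
    have := hc.card_mul
    rw [hP, Nat.card_congr (Subgroup.subgroupOfEquivOfLe hEN).toEquiv, hEcard, hd',
      mul_comm 2048] at this
    exact Nat.eq_of_mul_eq_mul_right (by norm_num) this
  have hodd : ∀ g : N, g ∈ Kn ↔ g ^ d = 1 := by
    intro g
    constructor
    · intro hg
      rw [← hKn]
      exact congrArg Subtype.val (pow_card_eq_one' (x := (⟨g, hg⟩ : Kn)))
    · intro hg
      refine MonoidHom.mem_ker.2 ?_
      set a := MonoidHom.transferSylow P hPC g with ha
      have h1 : a ^ d = 1 := by rw [ha, ← map_pow, hg, map_one]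
      have h2 : a ^ 2048 = 1 := by
        have h3 : Nat.card (P : Subgroup N) = 2048 := by
          rw [hP, Nat.card_congr (Subgroup.subgroupOfEquivOfLe hEN).toEquiv, hEcard]
        rw [← h3]
        exact pow_card_eq_one'
      have := pow_gcd_eq_one.2 ⟨h1, h2⟩
      rwa [hcop, pow_one] at this
  let N2 : Subgroup G := Kn.map N.subtype
  haveI : N2.Normal := by
    refine ⟨fun g hg c => ?_⟩
    obtain ⟨g', hg', rfl⟩ := hg
    refine ⟨⟨c * g' * c⁻¹, hN.conj_mem _ g'.2 c⟩, (hodd _).2 (Subtype.ext ?_), rfl⟩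
    show (c * (g' : G) * c⁻¹) ^ d = 1
    rw [conj_pow, show (g' : G) ^ d = 1 from congrArg Subtype.val ((hodd g').1 hg')]
    simp
  have hN2 : Disjoint N2 (E ⊔ K) := by
    rw [disjoint_iff_inf_le]
    rintro g ⟨⟨g', hg', rfl⟩, hgM⟩
    have hgE : (g' : G) ∈ E := hE ▸ ⟨g'.2, hgM⟩
    have : g' = 1 := Subgroup.mem_bot.1 (hc.disjoint.le_bot ⟨hg', hgE⟩)
    simp [this]
  have hbot := hcent N2 inferInstance (centralized_of_disjoint hKE hEcard hKcard hdisj hG hN2)
  have hd1 : d = 1 := by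
    rw [← hKn, Nat.card_congr (Kn.equivMapOfInjective N.subtype N.subtype_injective).toEquiv]
    show Nat.card N2 = 1
    rw [hbot, Subgroup.card_bot]
  have : E = N := Subgroup.eq_of_le_of_card_ge hEN (by rw [hEcard, hd', hd1])
  exact hEn (this ▸ hN)

include hKE hEcard hKcard hdisj hG hcomm hgen hcent hirr hfix hEn in
theorem isSimple : IsSimpleGroup G := by
  haveI : Nontrivial G := Finite.one_lt_card_iff_nontrivial.1 (by rw [hG]; norm_num [idx])
  refine ⟨fun N hN => ?_⟩
  rcases (Subgroup.Normal.subgroupOf hN K).eq_bot_or_eq_top with h | h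
  · have hd : Disjoint N K := Subgroup.subgroupOf_eq_bot.1 h
    have hle := inf_le_E hKE hEcard hKcard hdisj hd
    by_cases hb : N ⊓ (E ⊔ K) = ⊥
    · exact Or.inl (hcent N hN
        (centralized_of_disjoint hKE hEcard hKcard hdisj hG (disjoint_iff.2 hb)))
    · refine (not_inf_eq_E hKE hEcard hKcard hdisj hG hcomm hcent hfix hEn (N := N) ?_).elim
      refine le_antisymm hle (hirr _ hle hb fun k hk g hg => ?_)
      exact ⟨hN.conj_mem _ hg.1 k, (E ⊔ K).mul_mem ((E ⊔ K).mul_mem (le_sup_right (a := E) hk) hg.2)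
        (le_sup_right (a := E) (K.inv_mem hk))⟩
  · exact Or.inr (hgen N hN (Subgroup.subgroupOf_eq_top.1 h))

end

end CfsgLib.J4Main61
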