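import Cfsg.Agent.J4Main61.Named

/-!
Kernel checks on the named matrices.
-/

set_option autoImplicit false
set_option maxRecDepth 100000
set_option Elab.async false

namespace CfsgLib.J4Main61

open Cfsg.Spor CfsgLib.CosetEnum CfsgLib.J4Rep112

theorem invSys_ok : ((List.range 11).all fun i => sameOK [4 + i, 4 + i] [] &&
    (List.range i).all fun j => sameOK [4 + i, 4 + j] [4 + j, 4 + i]) = true := by decide +kernel

theorem conjX_ok : ((List.range 11).all fun i =>
    sameOK [0, 4 + i] (esel (Tab.xrow.getD i 0) ++ [0])) = true := by decide +kernel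

theorem conjY_ok : ((List.range 11).all fun i =>
    sameOK [1, 4 + i] (esel (Tab.yrow.getD i 0) ++ [1])) = true := by decide +kernel

theorem conjE_ok : ((List.range 11).all fun i =>
    (Tab.cwords.getD i []).all (fun c => c.blt 3) &&
    sameOK (Tab.cwords.getD i [] ++ [4]) ([4 + i] ++ Tab.cwords.getD i [])) = true := by
  decide +kernel

theorem indep_ok : ((List.range 2047).all fun s =>
    movesOK (esel (s + 1)) (Tab.probes.getD 0 0)) = true := by decide +kernel

end CfsgLib.J4Main61
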