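import Cfsg.Agent.J4Main61.Named

/-!
Kernel checks on the named matrices.
-/

set_option autoImplicit false
set_option maxRecDepth 100000
set_option Elab.async false

namespace CfsgLib.J4Main61

open Cfsg.Spor CfsgLib.CosetEnum CfsgLib.J4Rep112

/-- the commutator of the two elements of order eleven -/
def cw : List ℕ := List.replicate 10 15 ++ List.replicate 10 16 ++ [15, 16]

theorem eleven_ok : (sameOK (List.replicate 11 15) [] && sameOK (List.replicate 11 16) [] &&
    sameOK (cw ++ [15]) ([15] ++ cw) && sameOK (cw ++ [16]) ([16] ++ cw) &&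
    movesOK cw (Tab.probes.getD 0 0)) = true := by decide +kernel

theorem prime_ok : (sameOK (List.replicate 29 17) [] && sameOK (List.replicate 31 18) [] &&
    sameOK (List.replicate 37 19) [] && sameOK (List.replicate 43 20) [] &&
    [17, 18, 19, 20].all (fun k => movesOK [k] (Tab.probes.getD 0 0))) = true := by decide +kernel

theorem stabConj_ok : ((List.range 11).all fun i =>
    sameOK (Tab.stab1 ++ [4 + i]) (esel (Tab.stab1row.getD i 0) ++ Tab.stab1) &&
    sameOK (Tab.stab2 ++ [4 + i]) (esel (Tab.stab2row.getD i 0) ++ Tab.stab2)) = true := by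
  decide +kernel

theorem stab_ok : ((Tab.stab1 ++ Tab.stab2).all (fun c => c.blt 3) &&
    Nat.beq (linN Tab.stab1row 11 1) 1 && Nat.beq (linN Tab.stab2row 11 1) 1 &&
    (List.range 2048).all fun s => !Nat.beq (linN Tab.stab1row 11 s) s ||
      !Nat.beq (linN Tab.stab2row 11 s) s || s.ble 1) = true := by decide +kernel

/-- the next mask on the way to the first basis element -/
def nextOf (s : ℕ) : ℕ := Tab.nexts / 2 ^ (11 * s) % 2048

/-- the distance to the first basis element -/
def rankOf (s : ℕ) : ℕ := Tab.ranks / 2 ^ (5 * s) % 32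

theorem irred_ok : ((List.range 2046).all fun i =>
    !Nat.beq (nextOf (i + 2)) 0 && Nat.blt (rankOf (nextOf (i + 2))) (rankOf (i + 2)) &&
    (Nat.beq (nextOf (i + 2)) (linN Tab.xrow 11 (i + 2)) ||
      Nat.beq (nextOf (i + 2)) (linN Tab.yrow 11 (i + 2)) ||
      Nat.beq (nextOf (i + 2)) ((i + 2) ^^^ linN Tab.xrow 11 (i + 2)) ||
      Nat.beq (nextOf (i + 2)) ((i + 2) ^^^ linN Tab.yrow 11 (i + 2)))) = true := by decide +kernel

/-- inverse of `u ↦ (x u + u, y u + u, e u + u)` modulo `v₀` -/
noncomputable def fixInv (b : ℕ) : ℕ :=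
  vm Tab.p0 (tact [0] b ^^^ b) ^^^ vm Tab.p1 (tact [1] b ^^^ b) ^^^ vm Tab.p2 (tact [4] b ^^^ b) ^^^
    (if b.testBit Tab.bit then Tab.v0 else 0)

theorem fix_ok : (addOK Tab.p0 && addOK Tab.p1 && addOK Tab.p2 && Tab.v0.testBit Tab.bit &&
    Nat.blt Tab.v0 (2 ^ 112) &&
    [0, 1, 4].all (fun k => Nat.beq (tact [k] Tab.v0) Tab.v0) &&
    (List.range 112).all fun i => Nat.beq (fixInv (2 ^ i)) (2 ^ i)) = true := by decide +kernel

/-- images of `v₀` spanning the space -/
noncomputable def spanImages : List ℕ := Tab.spanWords.map fun w => tact w Tab.v0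

/-- the combination given by a mask -/
noncomputable def combine : List ℕ → ℕ → ℕ
  | [], _ => 0
  | v :: vs, m => (if m % 2 = 1 then v else 0) ^^^ combine vs (m / 2)

theorem span_ok : (Tab.spanWords.all (fun w => w.all fun k => k.blt 21) &&
    (List.range 112).all fun i =>
      Nat.beq (combine spanImages (Tab.combs.getD i 0)) (2 ^ i)) = true := by decide +kernel

end CfsgLib.J4Main61
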