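import Mathlib.GroupTheory.PGroup
import Mathlib.GroupTheory.Sylow
import Mathlib.GroupTheory.Transfer
import Mathlib.GroupTheory.Subgroup.Centralizer
import Mathlib.GroupTheory.Subgroup.Simple
import Mathlib.Data.Nat.Factorization.Basic
import Mathlib.Tactic.NormNum.Prime
import Mathlib.Tactic.IntervalCases

/-!
An element of order twenty-three acts trivially on every group of order dividing 173067389.
-/

set_option autoImplicit false

open scoped Pointwise

namespace CfsgLib.J4Main61

/-- the index of the monomial subgroup -/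
def idx : ℕ := 173067389

theorem idx_eq : idx = 11 ^ 2 * 29 * 31 * 37 * 43 := by norm_num [idx]

theorem sylowCard_cases {q k : ℕ} (hq : q.Prime) (h : q ^ k ∣ idx) :
    q ^ k = 1 ∨ q ^ k = 11 ∨ q ^ k = 121 ∨ q ^ k = 29 ∨ q ^ k = 31 ∨ q ^ k = 37 ∨ q ^ k = 43 := by
  rcases Nat.eq_zero_or_pos k with rfl | hk
  · left; simp
  have hd : q ∣ idx := (dvd_pow_self q hk.ne').trans h
  rw [idx_eq] at hd h
  have hq5 : q = 11 ∨ q = 29 ∨ q = 31 ∨ q = 37 ∨ q = 43 := by
    rcases (Nat.Prime.dvd_mul hq).1 hd with hd | hd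
    rcases (Nat.Prime.dvd_mul hq).1 hd with hd | hd
    rcases (Nat.Prime.dvd_mul hq).1 hd with hd | hd
    rcases (Nat.Prime.dvd_mul hq).1 hd with hd | hd
    · exact Or.inl ((Nat.prime_dvd_prime_iff_eq hq (by norm_num)).1 (hq.dvd_of_dvd_pow hd))
    all_goals
      have := (Nat.prime_dvd_prime_iff_eq hq (by norm_num)).1 hd
      omega
  rcases hq5 with rfl | rfl | rfl | rfl | rfl
  · have : k ≤ 2 := by
      by_contra hc
      exact absurd ((pow_dvd_pow 11 (show 3 ≤ k by omega)).trans h) (by norm_num)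
    interval_cases k <;> norm_num
  all_goals
    have : k ≤ 1 := by
      by_contra hc
      exact absurd ((pow_dvd_pow _ (show 2 ≤ k by omega)).trans h) (by norm_num)
    interval_cases k
    norm_num

theorem eq_of_dvd_of_modEq {c d : ℕ} (hc : c ∣ d)
    (hd : d = 1 ∨ d = 11 ∨ d = 121 ∨ d = 29 ∨ d = 31 ∨ d = 37 ∨ d = 43)
    (hm : d ≡ c [MOD 23]) : c = d := by
  have key : ∀ d ∈ [1, 11, 121, 29, 31, 37, 43], ∀ c ∈ List.range (d + 1),
      c ∣ d → d % 23 = c % 23 → c = d := by decide +kernel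
  refine key d (by simp; omega) c (List.mem_range.2 ?_) hc hm
  have := Nat.le_of_dvd (by omega) hc
  omega

/-- an automorphism of order dividing 23 of a group of order dividing 173067389 is trivial -/
theorem aut_eq_one {Z : Type*} [Group Z] (hZ : Nat.card Z ∣ idx) {h : MulAut Z}
    (hh : h ^ 23 = 1) : h = 1 := by
  haveI : Finite Z := Nat.finite_of_card_ne_zero fun e => by
    rw [e, zero_dvd_iff] at hZ; norm_num [idx] at hZ
  haveI : Fact (Nat.Prime 23) := ⟨by norm_num⟩
  let A : Subgroup (MulAut Z) := Subgroup.zpowers h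
  have hA : IsPGroup 23 A := by
    rintro ⟨a, ha⟩
    obtain ⟨n, rfl⟩ := Subgroup.mem_zpowers_iff.1 ha
    refine ⟨1, Subtype.ext ?_⟩
    show (h ^ n) ^ (23 ^ 1) = 1
    rw [pow_one, ← zpow_natCast, ← zpow_mul, mul_comm, zpow_mul, zpow_natCast, hh, one_zpow]
  let F : Subgroup Z := (h.toMonoidHom).eqLocus (MonoidHom.id Z)
  have hF : ∀ z, z ∈ F ↔ h z = z := fun z => Iff.rfl
  have hdvd : Nat.card Z ∣ Nat.card F := by
    rw [Nat.dvd_iff_prime_pow_dvd_dvd]
    intro q n hq hqn
    haveI : Fact q.Prime := ⟨hq⟩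
    rcases Nat.eq_zero_or_pos n with rfl | hn
    · simp
    have hns : ¬ (23 : ℕ) ∣ Nat.card (Sylow q Z) := by
      intro hd
      obtain ⟨Q⟩ : Nonempty (Sylow q Z) := inferInstance
      have := (hd.trans (Sylow.card_dvd_index Q)).trans
        ((Subgroup.index_dvd_card _).trans hZ)
      norm_num [idx] at this
    obtain ⟨Q, hQ⟩ := hA.nonempty_fixed_point_of_prime_not_dvd_card (Sylow q Z) hns
    have hQ' : ∀ a : A, ∀ z ∈ (Q : Subgroup Z), (a : MulAut Z) z ∈ (Q : Subgroup Z) := by
      intro a z hz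
      have e : (a : MulAut Z) • (Q : Subgroup Z) = Q := congrArg Sylow.toSubgroup (hQ a)
      rw [← e]
      exact Subgroup.smul_mem_pointwise_smul z (a : MulAut Z) _ hz
    letI : MulAction A (Q : Subgroup Z) :=
      { smul := fun a z => ⟨(a : MulAut Z) z.1, hQ' a z.1 z.2⟩
        one_smul := fun z => Subtype.ext rfl
        mul_smul := fun a b z => Subtype.ext rfl }
    have hcard := hA.card_modEq_card_fixedPoints (Q : Subgroup Z)
    have e : Nat.card (MulAction.fixedPoints A (Q : Subgroup Z)) =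
        Nat.card (F.subgroupOf (Q : Subgroup Z)) := by
      refine Nat.card_congr (Equiv.subtypeEquivRight fun z => ?_)
      constructor
      · intro hz
        exact congrArg Subtype.val (hz ⟨h, Subgroup.mem_zpowers h⟩)
      · intro hz a
        have hz' : h (z : Z) = z := hz
        refine Subtype.ext ?_
        show (a : MulAut Z) z.1 = z.1
        have hle : A ≤ MulAction.stabilizer (MulAut Z) (z : Z) :=
          Subgroup.zpowers_le.2 hz'
        exact hle a.2
    rw [e] at hcard
    obtain ⟨k, hk⟩ := IsPGroup.iff_card.1 Q.isPGroup'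
    have heq : Nat.card (F.subgroupOf (Q : Subgroup Z)) = Nat.card (Q : Subgroup Z) := by
      refine eq_of_dvd_of_modEq (Subgroup.card_subgroup_dvd_card _) ?_ hcard
      rw [hk]
      exact sylowCard_cases hq (hk ▸ (Subgroup.card_subgroup_dvd_card _).trans hZ)
    have hle : (Q : Subgroup Z) ≤ F :=
      Subgroup.subgroupOf_eq_top.1 (Subgroup.eq_top_of_card_eq _ heq)
    exact (Q.pow_dvd_card_of_pow_dvd_card hqn).trans (Subgroup.card_dvd_of_le hle)
  have htop : F = ⊤ := Subgroup.eq_top_of_card_eq _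
    (Nat.dvd_antisymm (Subgroup.card_subgroup_dvd_card _) hdvd)
  exact MulEquiv.ext fun z => (hF z).1 (htop ▸ Subgroup.mem_top z)

/-- a simple group with an element of order 23 normalising a subgroup of order dividing 173067389
centralises it -/
theorem commute_of_normalizes {K L : Type*} [Group K] [Group L] [IsSimpleGroup K] (f : K →* L)
    {k₀ : K} (h23 : k₀ ^ 23 = 1) (hne : k₀ ≠ 1) {X : Subgroup L} (hX : Nat.card X ∣ idx)
    (hn : ∀ k, f k ∈ Subgroup.normalizer (X : Set L)) :
    ∀ k, ∀ z ∈ X, f k * z = z * f k := by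
  let φ : K →* MulAut X := X.normalizerMonoidHom.comp (f.codRestrict _ hn)
  have h0 : φ k₀ = 1 := aut_eq_one hX (by rw [← map_pow, h23, map_one])
  have hker : φ.ker = ⊤ := φ.normal_ker.eq_bot_or_eq_top.resolve_left fun e =>
    hne (by simpa [e] using MonoidHom.mem_ker.2 h0)
  intro k z hz
  have hk : φ k = 1 := MonoidHom.mem_ker.1 (hker ▸ Subgroup.mem_top k)
  have h1 : f k * z * (f k)⁻¹ = z := by
    have h2 := congrArg Subtype.val (DFunLike.congr_fun hk ⟨z, hz⟩)
    exact h2
  calc f k * z = f k * z * (f k)⁻¹ * f k := by group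
    _ = z * f k := by rw [h1]

end CfsgLib.J4Main61
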