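import Cfsg.Agent.J4Main61.Tabs
import Cfsg.Agent.J4Main61.ChecksA
import Cfsg.Agent.J4Main61.ChecksB
import Cfsg.Agent.J4Main61.Abstract
import Cfsg.Agent.J4M24.Iso
import Cfsg.Agent.S0365
import Cfsg.Agent.Mathieu.M24

/-!
The image of the presented group has order divisible by that of the fourth Janko group.
-/

set_option autoImplicit false
set_option maxRecDepth 100000
set_option Elab.async false

namespace CfsgLib.J4Main61

open Cfsg.Spor CfsgLib.CosetEnum CfsgLib.J4Rep112

/-- the order of the fourth Janko group -/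
def order : ℕ := idx * (2048 * 244823040)

theorem order_eq : order = 86775571046077562880 := by decide +kernel

/-- the basis of the elementary abelian group in the representation -/
noncomputable def ep (i : ℕ) : Equiv.Perm Vec := pm (4 + i)

theorem gword_esel (g : ℕ → Equiv.Perm Vec) (s : ℕ) :
    gword g (esel s) = phiN (fun i => g (4 + i)) 11 s := by
  rw [phiN_eq_gword, esel]
  induction selN 11 s with
  | nil => rfl
  | cons a l ih => rw [List.map_cons, gword_cons, gword_cons, ih]

theorem gword_two (g : ℕ → Equiv.Perm Vec) (a b : ℕ) : gword g [a, b] = g a * g b := by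
  simp [gword_cons, gword_nil]

theorem invP : InvSystem ep := by
  have h := invSys_ok
  simp only [List.all_eq_true, Bool.and_eq_true, List.mem_range] at h
  refine ⟨fun i hi => ?_, fun i hi j hj => ?_⟩
  · simpa [gword_two, gword_nil, ep] using same_spec (h i hi).1
  · rcases lt_trichotomy i j with hlt | rfl | hlt
    · simpa [gword_two, ep] using (same_spec ((h j hj).2 i hlt)).symm
    · rfl
    · simpa [gword_two, ep] using same_spec ((h i hi).2 j hlt)

theorem indepP {s : ℕ} (h0 : 0 < s) (hs : s < 2048) : phiN ep 11 s ≠ 1 := by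
  have h := List.all_eq_true.1 indep_ok (s - 1) (List.mem_range.2 (by omega))
  rw [Nat.sub_add_cancel h0] at h
  have := moves_spec h
  rwa [gword_esel] at this

theorem conjXP {i : ℕ} (hi : i < 11) :
    pm 0 * ep i = phiN ep 11 (Tab.xrow.getD i 0) * pm 0 := by
  have h := same_spec (List.all_eq_true.1 conjX_ok i (List.mem_range.2 hi))
  rw [gword_app, gword_esel, gword_two] at h
  show pm 0 * pm (4 + i) = phiN (fun i => pm (4 + i)) 11 _ * pm 0
  simpa [gword_cons, gword_nil] using h

theorem conjYP {i : ℕ} (hi : i < 11) :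
    pm 1 * ep i = phiN ep 11 (Tab.yrow.getD i 0) * pm 1 := by
  have h := same_spec (List.all_eq_true.1 conjY_ok i (List.mem_range.2 hi))
  rw [gword_app, gword_esel, gword_two] at h
  show pm 1 * pm (4 + i) = phiN (fun i => pm (4 + i)) 11 _ * pm 1
  simpa [gword_cons, gword_nil] using h

theorem el_zero : el 0 = PresentedGroup.of J4.Gen.x := by
  simp [el, Tab.gwords, gword_cons, gword_nil, jl]

theorem el_one : el 1 = PresentedGroup.of J4.Gen.y := by
  simp [el, Tab.gwords, gword_cons, gword_nil, jl]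

theorem el_two : el 2 = (PresentedGroup.of J4.Gen.y)⁻¹ := by
  simp [el, Tab.gwords, gword_cons, gword_nil, jl]

theorem el_three : el 3 = PresentedGroup.of J4.Gen.t := by
  simp [el, Tab.gwords, gword_cons, gword_nil, jl]

/-- the Mathieu subgroup -/
noncomputable def K : Subgroup J4 := CfsgLib.J4M24.incl.range

theorem K_eq : K = Subgroup.closure {el 0, el 1} := by
  rw [K, CfsgLib.J4M24.incl_range, el_zero, el_one, MonoidHom.map_closure, Set.image_pair]
  rfl

theorem isSimple_P : IsSimpleGroup CfsgLib.J4M24.P := by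
  haveI : IsSimpleGroup ↥Cfsg.M24 := Cfsg.Agent.S0365.result
  haveI := CfsgLib.J4M24.equivM24.toEquiv.nontrivial
  exact IsSimpleGroup.isSimpleGroup_of_surjective CfsgLib.J4M24.equivM24.symm.toMonoidHom
    CfsgLib.J4M24.equivM24.symm.surjective

theorem card_P : Nat.card CfsgLib.J4M24.P = 244823040 := by
  rw [Nat.card_congr CfsgLib.J4M24.equivM24.toEquiv]
  exact CfsgLib.Mathieu.card_M24

theorem card_K : Nat.card K = 244823040 := by
  rw [K, ← Nat.card_congr (MonoidHom.ofInjective CfsgLib.J4M24.incl_injective).toEquiv, card_P]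

theorem isSimple_K : IsSimpleGroup K := by
  show IsSimpleGroup CfsgLib.J4M24.incl.range
  haveI := isSimple_P
  have e := MonoidHom.ofInjective CfsgLib.J4M24.incl_injective
  haveI := e.symm.toEquiv.nontrivial
  exact IsSimpleGroup.isSimpleGroup_of_surjective e.toMonoidHom e.surjective

theorem rep_injOn_K : Function.Injective (rep.domRestrict K) := by
  haveI := isSimple_K
  rw [← MonoidHom.ker_eq_bot_iff]
  refine (rep.domRestrict K).normal_ker.eq_bot_or_eq_top.resolve_right fun h => rep_x_ne_one ?_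
  have hx : el 0 ∈ K := K_eq ▸ Subgroup.subset_closure (by simp)
  have : (⟨el 0, hx⟩ : K) ∈ (rep.domRestrict K).ker := h ▸ Subgroup.mem_top _
  rw [← el_zero]
  exact MonoidHom.mem_ker.1 this

/-- the elementary abelian subgroup of the image -/
noncomputable def EP : Subgroup (Equiv.Perm Vec) := invP.group

/-- the image of the Mathieu subgroup -/
noncomputable def KP : Subgroup (Equiv.Perm Vec) := K.map rep

theorem ep_mem (i : ℕ) (hi : i < 11) : ep i ∈ EP := ⟨2 ^ i, (phiN_pow ep 11 i hi).symm⟩

theorem EP_le_range : EP ≤ rep.range := by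
  rintro g ⟨s, rfl⟩
  exact ⟨phiN (fun i => el (4 + i)) 11 s, by rw [map_phiN]; simp only [rep_el]; rfl⟩

theorem card_EP : Nat.card EP = 2048 := invP.card_group fun _ => indepP

theorem card_KP : Nat.card KP = 244823040 := by
  rw [← card_K]
  have e : KP = (rep.domRestrict K).range := (MonoidHom.domRestrict_range K rep).symm
  rw [e]
  exact (Nat.card_congr (MonoidHom.ofInjective rep_injOn_K).toEquiv).symm

theorem KP_le : KP ≤ Subgroup.normalizer (EP : Set (Equiv.Perm Vec)) := by
  rw [KP, K_eq, MonoidHom.map_closure, Subgroup.closure_le]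
  haveI : Finite EP := Nat.finite_of_card_ne_zero (by rw [card_EP]; norm_num)
  rintro g ⟨k, hk, rfl⟩
  refine Subgroup.mem_normalizer_fintype fun v hv => ?_
  obtain ⟨s, rfl⟩ := hv
  rcases hk with rfl | rfl
  · exact ⟨linN Tab.xrow 11 s, by
      rw [rep_el, invP.conj (fun i hi => conjXP hi) 11 le_rfl s, mul_inv_cancel_right]⟩
  · exact ⟨linN Tab.yrow 11 s, by
      rw [rep_el, invP.conj (fun i hi => conjYP hi) 11 le_rfl s, mul_inv_cancel_right]⟩

theorem disjoint_EP_KP : Disjoint EP KP := by
  haveI : IsSimpleGroup KP := by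
    haveI := isSimple_K
    have e : K ≃* KP := (MonoidHom.ofInjective rep_injOn_K).trans
      (MulEquiv.subgroupCongr (MonoidHom.domRestrict_range K rep))
    haveI := e.symm.toEquiv.nontrivial
    exact IsSimpleGroup.isSimpleGroup_of_surjective e.toMonoidHom e.surjective
  have hn : (EP.subgroupOf KP).Normal := ⟨fun a ha k => (Subgroup.mem_normalizer_iff.1 (KP_le k.2) _).1 ha⟩
  rcases hn.eq_bot_or_eq_top with h | h
  · exact Subgroup.subgroupOf_eq_bot.1 h
  · haveI : Finite EP := Nat.finite_of_card_ne_zero (by rw [card_EP]; norm_num)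
    have := Subgroup.card_le_of_le (Subgroup.subgroupOf_eq_top.1 h)
    rw [card_EP, card_KP] at this
    norm_num at this

theorem gword_replicate (g : ℕ → Equiv.Perm Vec) (k : ℕ) : ∀ n,
    gword g (List.replicate n k) = g k ^ n
  | 0 => rfl
  | n + 1 => by rw [List.replicate_succ, gword_cons, pow_succ', gword_replicate g k n]

theorem dvd_of_prime_word {p k : ℕ} (hp : p.Prime) (h1 : sameOK (List.replicate p k) [] = true)
    (h2 : movesOK [k] (Tab.probes.getD 0 0) = true) : p ∣ Nat.card rep.range := by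
  haveI : Fact p.Prime := ⟨hp⟩
  have e1 : pm k ^ p = 1 := by
    have := same_spec h1
    rw [gword_nil] at this
    rw [← this, gword_replicate]
  have e2 : pm k ≠ 1 := by simpa [gword_cons, gword_nil] using moves_spec h2
  rw [← orderOf_eq_prime e1 e2, ← rep_el k]
  have : orderOf (⟨rep (el k), el k, rfl⟩ : rep.range) = orderOf (rep (el k)) :=
    (orderOf_injective rep.range.subtype rep.range.subtype_injective _).symm
  rw [← this]
  exact orderOf_dvd_natCard _

/-- a group containing two elements of order eleven with a central nontrivial commutator -/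
theorem eleven_cube_dvd {L : Type*} [Group L] [Finite L] (a b : L) (ha : a ^ 11 = 1)
    (hb : b ^ 11 = 1) (h1 : Commute (a⁻¹ * b⁻¹ * a * b) a) (h2 : Commute (a⁻¹ * b⁻¹ * a * b) b)
    (hne : a⁻¹ * b⁻¹ * a * b ≠ 1) : 11 ^ 3 ∣ Nat.card L := by
  haveI : Fact (Nat.Prime 11) := ⟨by norm_num⟩
  set c := a⁻¹ * b⁻¹ * a * b with hc
  have hab : b * c = b * (a⁻¹ * b⁻¹ * a * b) := rfl
  have hconj : b⁻¹ * a * b = a * c := by rw [hc]; group
  have hcp : c ^ 11 = 1 := by
    have e : b⁻¹ * a ^ 11 * b = a ^ 11 * c ^ 11 := by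
      rw [← h1.symm.mul_pow, ← hconj]
      have := conj_pow (a := b⁻¹) (b := a) (i := 11)
      rw [inv_inv] at this
      exact this.symm
    rw [ha] at e
    simpa using e.symm
  have ha1 : orderOf a = 11 := orderOf_eq_prime ha fun e => hne (by rw [hc, e]; group)
  have hc1 : orderOf c = 11 := orderOf_eq_prime hcp hne
  have hb1 : orderOf b = 11 := orderOf_eq_prime hb fun e => hne (by rw [hc, e]; group)
  let A := Subgroup.zpowers a
  let C := Subgroup.zpowers c
  let B := Subgroup.zpowers b
  have hCA : C ≤ Subgroup.normalizer (A : Set L) := by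
    rw [Subgroup.zpowers_le, Subgroup.mem_normalizer_iff_map_conj_eq, MonoidHom.map_zpowers]
    congr 1
    show c * a * c⁻¹ = a
    rw [h1.eq, mul_inv_cancel_right]
  have hd1 : Disjoint A C := by
    rw [disjoint_iff]
    by_contra hne'
    have hle : C ≤ A := by
      have hdv := Subgroup.card_dvd_of_le (inf_le_right : A ⊓ C ≤ C)
      rw [Nat.card_zpowers, hc1, Nat.dvd_prime (by norm_num)] at hdv
      have hcard := hdv.resolve_left fun e => hne' (Subgroup.card_eq_one.1 e)
      have := Subgroup.eq_of_le_of_card_ge (inf_le_right : A ⊓ C ≤ C)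
        (by rw [Nat.card_zpowers, hc1, hcard])
      exact this ▸ inf_le_left
    obtain ⟨k, hk⟩ := Subgroup.mem_zpowers_iff.1 (hle (Subgroup.mem_zpowers c))
    have e : b⁻¹ * a * b = a ^ (1 + k) := by rw [hconj, ← hk, zpow_add, zpow_one]
    have hbc : b⁻¹ * c * b = c := by rw [mul_assoc, h2.eq, inv_mul_cancel_left]
    have e2 : c = c ^ (1 + k) := by
      calc c = b⁻¹ * c * b := hbc.symm
        _ = (MulAut.conj b⁻¹) (a ^ k) := by rw [hk]; simp
        _ = ((MulAut.conj b⁻¹) a) ^ k := map_zpow _ _ _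
        _ = (a ^ (1 + k)) ^ k := by rw [← e]; simp
        _ = c ^ (1 + k) := by rw [← hk, ← zpow_mul, ← zpow_mul, mul_comm]
    have hk0 : c ^ k = 1 := by
      rw [zpow_add, zpow_one] at e2
      exact mul_left_cancel (a := c) (by rw [← e2, mul_one])
    rw [← orderOf_dvd_iff_zpow_eq_one, hc1] at hk0
    apply hne
    rw [← hk]
    exact orderOf_dvd_iff_zpow_eq_one.1 (by rw [ha1]; exact hk0)
  have hcard2 : Nat.card (A ⊔ C : Subgroup L) = 121 := by
    rw [card_sup_eq hCA hd1, Nat.card_zpowers, Nat.card_zpowers, ha1, hc1]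
  have haAC : a ∈ A ⊔ C := le_sup_left (b := C) (Subgroup.mem_zpowers a)
  have hcAC : c ∈ A ⊔ C := le_sup_right (a := A) (Subgroup.mem_zpowers c)
  have hBN : B ≤ Subgroup.normalizer ((A ⊔ C : Subgroup L) : Set L) := by
    rw [Subgroup.zpowers_le]
    refine (Subgroup.inv_mem_iff _).1 (Subgroup.mem_normalizer_fintype fun v hv => ?_)
    change v ∈ Subgroup.comap (MulAut.conj b⁻¹).toMonoidHom (A ⊔ C)
    refine (sup_le ?_ ?_ : A ⊔ C ≤ _) hv <;> rw [Subgroup.zpowers_le, Subgroup.mem_comap]
    · show b⁻¹ * a * b⁻¹⁻¹ ∈ A ⊔ C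
      rw [inv_inv, hconj]
      exact (A ⊔ C).mul_mem haAC hcAC
    · show b⁻¹ * c * b⁻¹⁻¹ ∈ A ⊔ C
      rw [inv_inv, mul_assoc, h2.eq, inv_mul_cancel_left]
      exact hcAC
  have hd2 : Disjoint (A ⊔ C) B := by
    rw [disjoint_iff]
    by_contra hne'
    have hdv := Subgroup.card_dvd_of_le (inf_le_right : (A ⊔ C) ⊓ B ≤ B)
    rw [Nat.card_zpowers, hb1, Nat.dvd_prime (by norm_num)] at hdv
    have hcard := hdv.resolve_left fun e => hne' (Subgroup.card_eq_one.1 e)
    have := Subgroup.eq_of_le_of_card_ge (inf_le_right : (A ⊔ C) ⊓ B ≤ B)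
      (by rw [Nat.card_zpowers, hb1, hcard])
    have hbAC : b ∈ A ⊔ C := (inf_le_left : (A ⊔ C) ⊓ B ≤ A ⊔ C) (this.ge (Subgroup.mem_zpowers b))
    have hle : A ⊔ C ≤ Subgroup.centralizer ({a} : Set L) := by
      refine sup_le ?_ ?_ <;> rw [Subgroup.zpowers_le, Subgroup.mem_centralizer_singleton_iff]
      exact h1.eq
    have := Subgroup.mem_centralizer_singleton_iff.1 (hle hbAC)
    exact hne (by rw [hc, mul_assoc, ← this]; group)
  have := Subgroup.card_subgroup_dvd_card ((A ⊔ C) ⊔ B)
  rw [card_sup_eq hBN hd2, hcard2, Nat.card_zpowers, hb1] at this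
  simpa using this

theorem order_dvd : order ∣ Nat.card rep.range := by
  haveI : Finite rep.range := inferInstance
  have h1 : 2048 * 244823040 ∣ Nat.card rep.range := by
    have := Subgroup.card_dvd_of_le (sup_le EP_le_range (Subgroup.map_le_range rep K) : EP ⊔ KP ≤ _)
    rwa [card_sup_eq KP_le disjoint_EP_KP, card_EP, card_KP] at this
  have hp := prime_ok
  simp only [Bool.and_eq_true, List.all_cons, List.all_nil] at hp
  obtain ⟨⟨⟨⟨p29, p31⟩, p37⟩, p43⟩, m29, m31, m37, m43, -⟩ := hp
  have h11 : 11 ^ 3 ∣ Nat.card rep.range := by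
    have h := eleven_ok
    simp only [Bool.and_eq_true] at h
    obtain ⟨⟨⟨⟨q1, q2⟩, q3⟩, q4⟩, q5⟩ := h
    have f1 : pm 15 ^ 11 = 1 := (gword_replicate pm 15 11).symm.trans (same_spec q1)
    have f2 : pm 16 ^ 11 = 1 := (gword_replicate pm 16 11).symm.trans (same_spec q2)
    have ec : gword pm cw = (pm 15)⁻¹ * (pm 16)⁻¹ * pm 15 * pm 16 := by
      have i1 : (pm 15)⁻¹ = pm 15 ^ 10 :=
        inv_eq_of_mul_eq_one_left (by rw [← pow_succ, f1])
      have i2 : (pm 16)⁻¹ = pm 16 ^ 10 :=
        inv_eq_of_mul_eq_one_left (by rw [← pow_succ, f2])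
      rw [cw, gword_app, gword_app, gword_replicate, gword_replicate, gword_two, i1, i2]
      group
    refine eleven_cube_dvd (L := rep.range) ⟨pm 15, el 15, rep_el 15⟩ ⟨pm 16, el 16, rep_el 16⟩
      (Subtype.ext f1) (Subtype.ext f2) (Subtype.ext ?_) (Subtype.ext ?_) ?_
    · have := same_spec q3
      rw [gword_app, gword_app, ec] at this
      simpa [gword_cons, gword_nil, mul_assoc] using this
    · have := same_spec q4
      rw [gword_app, gword_app, ec] at this
      simpa [gword_cons, gword_nil, mul_assoc] using this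
    · intro e
      apply moves_spec q5
      rw [ec]
      exact congrArg Subtype.val e
  have k := Nat.lcm_dvd h1 (Nat.lcm_dvd h11 (Nat.lcm_dvd
    (dvd_of_prime_word (by norm_num) p29 m29) (Nat.lcm_dvd
    (dvd_of_prime_word (by norm_num) p31 m31) (Nat.lcm_dvd
    (dvd_of_prime_word (by norm_num) p37 m37) (dvd_of_prime_word (by norm_num) p43 m43)))))
  refine dvd_trans (dvd_of_eq ?_) k
  decide +kernel

end CfsgLib.J4Main61
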