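import Cfsg.Agent.J4Main61.Simple
import Mathlib.Algebra.Field.ZMod
import Mathlib.LinearAlgebra.Matrix.GeneralLinearGroup.Defs

/-!
The representation as matrices over two elements.
-/

set_option autoImplicit false
set_option maxRecDepth 100000

namespace CfsgLib.J4Main61

open Cfsg.Spor CfsgLib.J4Rep112

/-- a bit as an element of the field with two elements -/
def zb (b : Bool) : ZMod 2 := if b then 1 else 0

theorem zb_xor (a b : Bool) : zb (a != b) = zb a + zb b := by
  cases a <;> cases b <;> decide

theorem zb_injective : Function.Injective zb := by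
  intro a b; cases a <;> cases b <;> decide

/-- a unit vector -/
def unitVec (j : Fin 112) : Vec := ⟨2 ^ j.1, Nat.pow_lt_pow_right (by norm_num) j.2⟩

/-- the matrix of a group element -/
noncomputable def mat (g : J4) : Matrix (Fin 112) (Fin 112) (ZMod 2) :=
  fun i j => zb ((rep g (unitVec j)).1.testBit i.1)

theorem rep_zero (g : J4) : (rep g ⟨0, by norm_num⟩).1 = 0 := by
  have := rep_xor g ⟨0, by norm_num⟩ ⟨0, by norm_num⟩
  simpa using this

theorem expand (g : J4) (i : Fin 112) : ∀ (u : Vec),
    zb ((rep g u).1.testBit i.1) = ∑ k : Fin 112, mat g i k * zb (u.1.testBit k.1) := by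
  suffices h : ∀ n ≤ 112, ∀ a, ∀ ha : a < 2 ^ 112, a < 2 ^ n →
      zb ((rep g ⟨a, ha⟩).1.testBit i.1) = ∑ k : Fin 112, mat g i k * zb (a.testBit k.1) from
    fun u => h 112 le_rfl u.1 u.2 u.2
  intro n
  induction n with
  | zero =>
    intro _ a ha h0
    obtain rfl : a = 0 := by simpa using h0
    simp [rep_zero, zb]
  | succ n ih =>
    intro hn a ha hlt'
    by_cases hlt : a < 2 ^ n
    · exact ih (by omega) a ha hlt
    · have hb : a.testBit n = true := by
        rw [Nat.testBit_eq_decide_div_mod_eq, decide_eq_true_eq]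
        rw [Nat.div_eq_of_lt_le (k := 1) (by omega) (by rw [pow_succ] at hlt'; omega)]
      have h2 : a ^^^ 2 ^ n < 2 ^ n := Nat.lt_pow_two_of_testBit _ fun k hk => by
        rw [Nat.testBit_xor]
        rcases eq_or_lt_of_le hk with rfl | h'
        · simp [hb]
        · rw [Nat.testBit_eq_false_of_lt
            (lt_of_lt_of_le hlt' (Nat.pow_le_pow_right Nat.two_pos h'))]
          simp [Nat.ne_of_lt h']
      have hc : a ^^^ 2 ^ n < 2 ^ 112 :=
        h2.trans_le (Nat.pow_le_pow_right Nat.two_pos (by omega))
      have hx := rep_xor g ⟨a ^^^ 2 ^ n, hc⟩ (unitVec ⟨n, by omega⟩)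
      simp only [unitVec, Nat.xor_assoc, Nat.xor_self, Nat.xor_zero] at hx
      rw [hx, Nat.testBit_xor, zb_xor, ih (by omega) _ hc h2]
      have hsum : ∀ k : Fin 112, mat g i k * zb (a.testBit k.1) =
          mat g i k * zb ((a ^^^ 2 ^ n).testBit k.1) +
            (if k = ⟨n, by omega⟩ then mat g i k else 0) := by
        intro k
        rw [Nat.testBit_xor, zb_xor, mul_add]
        by_cases hk : k = ⟨n, by omega⟩
        · subst hk
          simp [zb, mul_comm]
          rw [add_assoc, CharTwo.add_self_eq_zero, add_zero]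
        · have : k.1 ≠ n := fun e => hk (Fin.ext e)
          simp [hk, zb, Nat.testBit_two_pow, Ne.symm this]
      rw [Finset.sum_congr rfl fun k _ => hsum k, Finset.sum_add_distrib, Finset.sum_ite_eq']
      simp [mat, unitVec]

theorem mat_one : mat 1 = 1 := by
  ext i j
  simp only [mat, map_one, Equiv.Perm.one_apply, unitVec, Nat.testBit_two_pow, zb,
    Matrix.one_apply]
  by_cases h : i = j
  · simp [h]
  · have : j.1 ≠ i.1 := fun e => h (Fin.ext e.symm)
    simp [h, this]

theorem mat_mul (g h : J4) : mat (g * h) = mat g * mat h := by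
  ext i j
  rw [Matrix.mul_apply]
  show zb ((rep (g * h) (unitVec j)).1.testBit i.1) = _
  rw [map_mul, Equiv.Perm.mul_apply, expand g i]
  rfl

/-- the representation as a homomorphism into matrices -/
noncomputable def matHom : J4 →* Matrix (Fin 112) (Fin 112) (ZMod 2) where
  toFun := mat
  map_one' := mat_one
  map_mul' := mat_mul

/-- the representation in the general linear group -/
noncomputable def glHom : J4 →* GL (Fin 112) (ZMod 2) := matHom.toHomUnits

theorem glHom_injective (hinj : Function.Injective rep) : Function.Injective glHom := by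
  intro a b e
  have e' : mat a = mat b := congrArg Units.val e
  refine hinj (Equiv.ext fun u => Subtype.ext (Nat.eq_of_testBit_eq fun i => ?_))
  by_cases hi : i < 112
  · exact zb_injective (by
      rw [show i = (⟨i, hi⟩ : Fin 112).1 from rfl, expand a, expand b, e'])
  · rw [Nat.testBit_eq_false_of_lt ((rep a u).2.trans_le
        (Nat.pow_le_pow_right Nat.two_pos (Nat.le_of_not_lt hi))),
      Nat.testBit_eq_false_of_lt ((rep b u).2.trans_le
        (Nat.pow_le_pow_right Nat.two_pos (Nat.le_of_not_lt hi)))]

end CfsgLib.J4Main61
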