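import Mathlib.Algebra.Group.Subgroup.Basic
import Mathlib.Data.Nat.Bitwise
import Mathlib.SetTheory.Cardinal.Finite
import Cfsg.Agent.CosetEnum.Present

/-!
The subgroup generated by commuting involutions, indexed by bit masks.
-/

set_option autoImplicit false

namespace CfsgLib.J4Main61

open CfsgLib.CosetEnum

variable {L : Type*} [Group L]

/-- product of the first `n` elements selected by a mask -/
def phiN (f : ℕ → L) : ℕ → ℕ → L
  | 0, _ => 1
  | n + 1, s => phiN f n s * (if s.testBit n then f n else 1)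

/-- selected indices -/
def selN : ℕ → ℕ → List ℕ
  | 0, _ => []
  | n + 1, s => selN n s ++ (if s.testBit n then [n] else [])

/-- linear map given by rows -/
def linN (r : List ℕ) : ℕ → ℕ → ℕ
  | 0, _ => 0
  | n + 1, s => linN r n s ^^^ (if s.testBit n then r.getD n 0 else 0)

theorem gword_app (f : ℕ → L) : ∀ p q : List ℕ, gword f (p ++ q) = gword f p * gword f q
  | [], q => by simp [gword_nil]
  | k :: p, q => by rw [List.cons_append, gword_cons, gword_cons, gword_app f p q, mul_assoc]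

theorem phiN_eq_gword (f : ℕ → L) : ∀ n s, phiN f n s = gword f (selN n s)
  | 0, _ => rfl
  | n + 1, s => by
    rw [phiN, selN, gword_app, phiN_eq_gword f n]
    split <;> simp [gword_cons, gword_nil]

theorem map_phiN {L' : Type*} [Group L'] (g : L →* L') (f : ℕ → L) : ∀ n s,
    g (phiN f n s) = phiN (fun i => g (f i)) n s
  | 0, _ => map_one g
  | n + 1, s => by rw [phiN, phiN, map_mul, map_phiN g f n]; split <;> simp

theorem phiN_one (f : ℕ → L) : ∀ n, phiN f n 0 = 1
  | 0 => rfl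
  | n + 1 => by simp [phiN, phiN_one f n]

theorem phiN_congr (f : ℕ → L) : ∀ n {s u : ℕ}, (∀ i < n, s.testBit i = u.testBit i) →
    phiN f n s = phiN f n u
  | 0, _, _, _ => rfl
  | n + 1, s, u, h => by
    rw [phiN, phiN, phiN_congr f n (fun i hi => h i (by omega)), h n (Nat.lt_succ_self n)]

theorem phiN_pow (f : ℕ → L) : ∀ n i, i < n → phiN f n (2 ^ i) = f i
  | n + 1, i, h => by
    rw [phiN]
    rcases Nat.lt_succ_iff_lt_or_eq.1 h with h | rfl
    · rw [phiN_pow f n i h]; simp [Nat.ne_of_lt h]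
    · rw [phiN_congr f i (u := 0) (fun k hk => by simp [Nat.testBit_two_pow, Nat.ne_of_gt hk]),
        phiN_one]
      simp [Nat.testBit_two_pow]

/-- commuting involutions -/
structure InvSystem (f : ℕ → L) : Prop where
  sq : ∀ i < 11, f i * f i = 1
  comm : ∀ i < 11, ∀ j < 11, f i * f j = f j * f i

variable {f : ℕ → L}

theorem InvSystem.commute (h : InvSystem f) {j : ℕ} (hj : j < 11) : ∀ n ≤ 11, ∀ s,
    Commute (f j) (phiN f n s)
  | 0, _, _ => Commute.one_right _
  | n + 1, hn, s => by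
    rw [phiN]
    refine (h.commute hj n (by omega) s).mul_right ?_
    split
    · exact h.comm j hj n (by omega)
    · exact Commute.one_right _

theorem InvSystem.mulN (h : InvSystem f) : ∀ n ≤ 11, ∀ s u,
    phiN f n s * phiN f n u = phiN f n (s ^^^ u)
  | 0, _, _, _ => mul_one 1
  | n + 1, hn, s, u => by
    have hc := (h.commute (show n < 11 by omega) n (by omega) u).eq
    rw [phiN, phiN, phiN, ← h.mulN n (by omega) s u, Nat.testBit_xor]
    have key : f n * (phiN f n u * f n) = phiN f n u := by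
      rw [← mul_assoc, hc, mul_assoc, h.sq n (by omega), mul_one]
    cases s.testBit n <;> cases u.testBit n <;> simp [mul_assoc, hc, key]

/-- the subgroup of the products -/
def InvSystem.group (h : InvSystem f) : Subgroup L where
  carrier := {g | ∃ s, g = phiN f 11 s}
  one_mem' := ⟨0, (phiN_one f 11).symm⟩
  mul_mem' := fun ⟨s, hs⟩ ⟨u, hu⟩ => ⟨s ^^^ u, by rw [hs, hu, h.mulN 11 le_rfl]⟩
  inv_mem' := fun {g} ⟨s, hs⟩ => ⟨s, by
    rw [hs, inv_eq_iff_mul_eq_one, h.mulN 11 le_rfl, Nat.xor_self, phiN_one]⟩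

theorem InvSystem.mem_group (h : InvSystem f) {g : L} :
    g ∈ h.group ↔ ∃ s, g = phiN f 11 s := Iff.rfl

theorem InvSystem.exists_lt (h : InvSystem f) {g : L} (hg : g ∈ h.group) :
    ∃ s < 2048, g = phiN f 11 s := by
  obtain ⟨s, rfl⟩ := hg
  refine ⟨s % 2 ^ 11, Nat.mod_lt _ (by norm_num), phiN_congr f 11 fun i hi => ?_⟩
  rw [Nat.testBit_mod_two_pow]; simp [hi]

theorem InvSystem.group_comm (h : InvSystem f) :
    ∀ a ∈ h.group, ∀ b ∈ h.group, a * b = b * a := by
  rintro a ⟨s, rfl⟩ b ⟨u, rfl⟩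
  rw [h.mulN 11 le_rfl, h.mulN 11 le_rfl, Nat.xor_comm]

theorem InvSystem.inj (h : InvSystem f) (hne : ∀ s, 0 < s → s < 2048 → phiN f 11 s ≠ 1)
    {s u : ℕ} (hs : s < 2048) (hu : u < 2048) (e : phiN f 11 s = phiN f 11 u) : s = u := by
  have hx : phiN f 11 (s ^^^ u) = 1 := by
    rw [← h.mulN 11 le_rfl, e, h.mulN 11 le_rfl, Nat.xor_self, phiN_one]
  by_contra hne'
  exact hne _ (Nat.pos_of_ne_zero fun z => hne' (Nat.xor_eq_zero_iff.1 z))
    (Nat.xor_lt_two_pow (n := 11) hs hu) hx

theorem InvSystem.card_group (h : InvSystem f)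
    (hne : ∀ s, 0 < s → s < 2048 → phiN f 11 s ≠ 1) : Nat.card h.group = 2048 := by
  let F : Fin 2048 → h.group := fun s => ⟨phiN f 11 s, s, rfl⟩
  have hF : Function.Bijective F :=
    ⟨fun s u e => Fin.ext (h.inj hne s.2 u.2 (congrArg Subtype.val e)), fun g => by
      obtain ⟨s, hs, hg⟩ := h.exists_lt g.2
      exact ⟨⟨s, hs⟩, Subtype.ext hg.symm⟩⟩
  rw [← Nat.card_congr (Equiv.ofBijective F hF), Nat.card_eq_fintype_card, Fintype.card_fin]

theorem InvSystem.conj (h : InvSystem f) {k : L} {r : List ℕ}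
    (hr : ∀ i < 11, k * f i = phiN f 11 (r.getD i 0) * k) : ∀ n ≤ 11, ∀ s,
    k * phiN f n s = phiN f 11 (linN r n s) * k
  | 0, _, _ => by simp [phiN, linN, phiN_one]
  | n + 1, hn, s => by
    rw [phiN, linN, ← mul_assoc, h.conj hr n (by omega), ← h.mulN 11 le_rfl]
    cases s.testBit n
    · simp [phiN_one]
    · simp [mul_assoc, hr n (by omega)]

end CfsgLib.J4Main61
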