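import Cfsg.Agent.J4Rep112.Hom
import Cfsg.Agent.J4Main61.Data
import Cfsg.Agent.J4Main61.Phi

/-!
Named elements of the presented group and of its representation, compared through their matrices.
-/

set_option autoImplicit false
set_option maxRecDepth 100000
set_option Elab.async false

namespace CfsgLib.J4Main61

open Cfsg.Spor CfsgLib.CosetEnum CfsgLib.J4Rep112

/-- letters in the presented group -/
def jl (c : ℕ) : J4 :=
  if c = 0 then PresentedGroup.of J4.Gen.x
  else if c = 1 then (PresentedGroup.of J4.Gen.x)⁻¹
  else if c = 2 then PresentedGroup.of J4.Gen.y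
  else if c = 3 then (PresentedGroup.of J4.Gen.y)⁻¹
  else if c = 4 then PresentedGroup.of J4.Gen.t
  else if c = 5 then (PresentedGroup.of J4.Gen.t)⁻¹
  else 1

theorem rep_jl (c : ℕ) : rep (jl c) = val c := by
  have hg : ∀ a, rep (PresentedGroup.of a) = val (enc a) := fun a => PresentedGroup.toGroup.of _
  unfold jl
  split_ifs with h0 h1 h2 h3 h4 h5
  all_goals (try subst c)
  · exact hg _
  · rw [map_inv, hg, ← val_iv (show enc J4.Gen.x < 6 by decide)]; rfl
  · exact hg _
  · rw [map_inv, hg, ← val_iv (show enc J4.Gen.y < 6 by decide)]; rfl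
  · exact hg _
  · rw [map_inv, hg, ← val_iv (show enc J4.Gen.t < 6 by decide)]; rfl
  · rw [map_one, val, dif_neg (by omega)]

theorem rep_gword_jl : ∀ w : List ℕ, rep (gword jl w) = gword val w
  | [] => map_one rep
  | c :: w => by rw [gword_cons, gword_cons, map_mul, rep_jl, rep_gword_jl w]

/-- the named elements of the presented group -/
def el (k : ℕ) : J4 := gword jl (Tab.gwords.getD k [])

/-- the named permutations -/
noncomputable def pm (k : ℕ) : Equiv.Perm Vec := gword val (Tab.gwords.getD k [])

theorem rep_el (k : ℕ) : rep (el k) = pm k := rep_gword_jl _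

theorem rep_gword_el : ∀ is : List ℕ, rep (gword el is) = gword pm is
  | [] => map_one rep
  | k :: is => by rw [gword_cons, gword_cons, map_mul, rep_el, rep_gword_el is]

/-- the matrices of a list of named elements, applied in turn -/
noncomputable def tact : List ℕ → ℕ → ℕ
  | [], v => v
  | k :: is, v => vm (Tab.gtabs.getD k []) (tact is v)

/-- a matrix agrees with its word -/
noncomputable def tabOK (k : ℕ) : Bool :=
  addOK (Tab.gtabs.getD k []) && (Tab.gwords.getD k []).all (fun c => c.blt 6) &&
    (List.range 112).all fun i =>
      Nat.beq (vm (Tab.gtabs.getD k []) (2 ^ i)) (act (Tab.gwords.getD k []) (2 ^ i))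

/-- two products of named elements have the same matrix -/
noncomputable def sameOK (p q : List ℕ) : Bool :=
  p.all (fun k => k.blt 21) && q.all (fun k => k.blt 21) &&
    (List.range 112).all fun i => Nat.beq (tact p (2 ^ i)) (tact q (2 ^ i))

/-- a product of named elements moves a vector -/
noncomputable def movesOK (p : List ℕ) (v : ℕ) : Bool :=
  p.all (fun k => k.blt 21) && Nat.blt v (2 ^ 112) && !Nat.beq (tact p v) v

/-- indices of the selected basis elements -/
def esel (s : ℕ) : List ℕ := (selN 11 s).map (fun i => 4 + i)

end CfsgLib.J4Main61
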