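import Cfsg.Agent.J4Main61.Image

/-!
Order, index and faithfulness from an upper bound on the index and on the order of the monomial
subgroup.
-/

set_option autoImplicit false
set_option maxRecDepth 100000

namespace CfsgLib.J4Main61

open Cfsg.Spor CfsgLib.CosetEnum CfsgLib.J4Rep112

/-- the monomial subgroup -/
noncomputable def M : Subgroup J4 := Subgroup.closure {el 0, el 1, el 4}

theorem el_four : el 4 = (PresentedGroup.of J4.Gen.y *
    ((PresentedGroup.of J4.Gen.y * PresentedGroup.of J4.Gen.x) ^ 4 *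
      (PresentedGroup.of J4.Gen.y)⁻¹ * PresentedGroup.of J4.Gen.x)⁻¹ *
    PresentedGroup.of J4.Gen.t *
    ((PresentedGroup.of J4.Gen.y * PresentedGroup.of J4.Gen.x) ^ 4 *
      (PresentedGroup.of J4.Gen.y)⁻¹ * PresentedGroup.of J4.Gen.x)) ^ 3 := by
  simp [el, Tab.gwords, gword_cons, gword_nil, jl, pow_succ, mul_inv_rev, mul_assoc]

theorem subgroup_eq_M : ((Subgroup.closure ({Cfsg.Spor.J4.x, Cfsg.Spor.J4.y,
    (Cfsg.Spor.J4.y * ((Cfsg.Spor.J4.y * Cfsg.Spor.J4.x) ^ 4 * Cfsg.Spor.J4.y⁻¹ *
      Cfsg.Spor.J4.x)⁻¹ * Cfsg.Spor.J4.t * ((Cfsg.Spor.J4.y * Cfsg.Spor.J4.x) ^ 4 *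
      Cfsg.Spor.J4.y⁻¹ * Cfsg.Spor.J4.x)) ^ 3} : Set (FreeGroup Cfsg.Spor.J4.Gen))).map
    (PresentedGroup.mk (Cfsg.Spor.coxRelators Cfsg.Spor.J4.edges ∪
      {r | r ∈ Cfsg.Spor.J4.extra}))) = M := by
  rw [MonoidHom.map_closure, M, el_zero, el_one, el_four, Set.image_insert_eq, Set.image_insert_eq,
    Set.image_singleton]
  simp only [map_pow, map_mul, map_inv]
  rfl

theorem squeeze {a b A B : ℕ} (h : a * b = A * B) (ha : a ≤ A) (hb : b ≤ B) (hA : 0 < A)
    (hB : 0 < B) : a = A ∧ b = B := by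
  constructor
  · rcases ha.lt_or_eq with hlt | he
    · have := lt_of_le_of_lt (Nat.mul_le_mul_left a hb) (Nat.mul_lt_mul_of_pos_right hlt hB)
      omega
    · exact he
  · rcases hb.lt_or_eq with hlt | he
    · have := lt_of_le_of_lt (Nat.mul_le_mul_right b ha) (Nat.mul_lt_mul_of_pos_left hlt hA)
      omega
    · exact he

section
variable (hfi : M.FiniteIndex) (hidx : M.index ≤ idx) (hfin : Finite M)
  (hM : Nat.card M ≤ 2 ^ 11 * 244823040)

include hfi hfin in
theorem finite_J4 : Finite J4 := by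
  haveI := hfin
  haveI := hfi
  refine Nat.finite_of_card_ne_zero ?_
  rw [← M.index_mul_card]
  exact Nat.mul_ne_zero hfi.index_ne_zero Nat.card_pos.ne'

include hfi hidx hfin hM in
theorem card_J4_le : Nat.card J4 ≤ order := by
  rw [← M.index_mul_card]
  show _ ≤ idx * (2048 * 244823040)
  have e : (2 : ℕ) ^ 11 = 2048 := by decide +kernel
  rw [e] at hM
  exact Nat.mul_le_mul hidx hM

theorem range_le [Finite J4] : Nat.card rep.range ≤ Nat.card J4 :=
  Nat.card_le_card_of_surjective _ rep.rangeRestrict_surjective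

include hfi hidx hfin hM in
theorem card_J4 : Nat.card J4 = order := by
  haveI := finite_J4 hfi hfin
  refine le_antisymm (card_J4_le hfi hidx hfin hM) ?_
  exact le_trans (Nat.le_of_dvd Nat.card_pos order_dvd) range_le

include hfi hidx hfin hM in
theorem rep_injective : Function.Injective rep := by
  haveI := finite_J4 hfi hfin
  have h : Nat.card rep.range = Nat.card J4 :=
    le_antisymm range_le (by
      rw [card_J4 hfi hidx hfin hM]
      exact Nat.le_of_dvd Nat.card_pos order_dvd)
  haveI := Fintype.ofFinite J4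
  haveI := Fintype.ofFinite rep.range
  have hb : Function.Bijective rep.rangeRestrict :=
    (Fintype.bijective_iff_surjective_and_card _).2 ⟨rep.rangeRestrict_surjective, by
      rw [← Nat.card_eq_fintype_card, ← Nat.card_eq_fintype_card, h]⟩
  intro a b e
  exact hb.1 (Subtype.ext e)

include hfi hidx hfin hM in
theorem index_card_M : M.index = idx ∧ Nat.card M = 2048 * 244823040 := by
  have h := M.index_mul_card.trans (card_J4 hfi hidx hfin hM)
  have e : (2 : ℕ) ^ 11 = 2048 := by decide +kernel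
  rw [e] at hM
  unfold order at h
  exact squeeze h hidx hM (by decide +kernel) (by decide +kernel)

end

end CfsgLib.J4Main61
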