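import Cfsg.Agent.J4Main61.Order

/-!
Simplicity of the presented fourth Janko group, given faithfulness and the order.
-/

set_option autoImplicit false
set_option maxRecDepth 100000

namespace CfsgLib.J4Main61

open Cfsg.Spor CfsgLib.CosetEnum CfsgLib.J4Rep112

theorem linN_lt {r : List ℕ} (h : ∀ i < 11, r.getD i 0 < 2 ^ 11) : ∀ n ≤ 11, ∀ s,
    linN r n s < 2 ^ 11
  | 0, _, _ => Nat.two_pow_pos 11
  | n + 1, hn, s => by
    rw [linN]
    refine Nat.xor_lt_two_pow (linN_lt h n (by omega) s) ?_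
    split
    · exact h n (by omega)
    · exact Nat.two_pow_pos 11

/-- homomorphisms killing `x` and `y` are trivial -/
theorem hom_trivial {L : Type*} [Group L] (f : J4 →* L) (hx : f (el 0) = 1) (hy : f (el 1) = 1) :
    f = 1 := by
  rw [el_zero] at hx
  rw [el_one] at hy
  have hrel : ∀ r ∈ J4.extra, f.comp (PresentedGroup.mk (coxRelators J4.edges ∪
      {r | r ∈ J4.extra})) r = 1 := fun r hr => by
    rw [MonoidHom.comp_apply, PresentedGroup.one_of_mem (Set.mem_union_right _ hr), map_one]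
  have h3 := hrel ((J4.y * ((J4.y * J4.x * (J4.y⁻¹) * J4.x * J4.y * J4.x * (J4.y⁻¹) * J4.x)⁻¹ *
    J4.t * (J4.y * J4.x * (J4.y⁻¹) * J4.x * J4.y * J4.x * (J4.y⁻¹) * J4.x))) ^ 3)
    (by simp [J4.extra])
  have h2 := hrel (J4.t ^ 2) (by simp [J4.extra])
  have hg : ∀ a, f.comp (PresentedGroup.mk (coxRelators J4.edges ∪ {r | r ∈ J4.extra}))
      (FreeGroup.of a) = f (PresentedGroup.of a) := fun a => rfl
  simp only [map_pow, map_mul, map_inv, hg, hx, hy, one_mul, mul_one, inv_one] at h3 h2
  have ht : f (PresentedGroup.of J4.Gen.t) = 1 := by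
    rw [pow_succ, h2, one_mul] at h3
    exact h3
  refine PresentedGroup.ext fun a => ?_
  cases a <;> simp [hx, hy, ht]

/-- the basis in the presented group -/
def eg (i : ℕ) : J4 := el (4 + i)

theorem rep_eg (i : ℕ) : rep (eg i) = ep i := rep_el _

theorem rep_phiN (s : ℕ) : rep (phiN eg 11 s) = phiN ep 11 s := by
  rw [map_phiN]
  simp only [rep_eg]

section
variable (hinj : Function.Injective rep)

include hinj in
theorem invG : InvSystem eg :=
  ⟨fun i hi => hinj (by rw [map_mul, rep_eg, map_one]; exact invP.sq i hi),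
    fun i hi j hj => hinj (by rw [map_mul, map_mul, rep_eg, rep_eg]; exact invP.comm i hi j hj)⟩

/-- the elementary abelian normal subgroup of `M` -/
noncomputable def EG : Subgroup J4 := (invG hinj).group

theorem map_EG : (EG hinj).map rep = EP := by
  ext g
  constructor
  · rintro ⟨a, ⟨s, rfl⟩, rfl⟩
    exact ⟨s, rep_phiN s⟩
  · rintro ⟨s, rfl⟩
    exact ⟨phiN eg 11 s, ⟨s, rfl⟩, rep_phiN s⟩

theorem mem_EG_iff (g : J4) : g ∈ EG hinj ↔ rep g ∈ EP := by
  constructor
  · intro h
    exact map_EG hinj ▸ Subgroup.mem_map_of_mem rep h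
  · intro h
    rw [← map_EG hinj] at h
    obtain ⟨a, ha, e⟩ := h
    rwa [← hinj e]

theorem card_EG : Nat.card (EG hinj) = 2048 := by
  rw [Nat.card_congr ((EG hinj).equivMapOfInjective rep hinj).toEquiv, map_EG, card_EP]

theorem K_le : K ≤ Subgroup.normalizer (EG hinj : Set J4) := by
  intro k hk
  rw [Subgroup.mem_normalizer_iff]
  intro v
  rw [mem_EG_iff hinj, mem_EG_iff hinj, map_mul, map_mul, map_inv]
  exact Subgroup.mem_normalizer_iff.1 (KP_le (Subgroup.mem_map_of_mem rep hk)) _

theorem disjoint_EG : Disjoint (EG hinj) K := by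
  rw [disjoint_iff_inf_le]
  intro g hg
  refine Subgroup.mem_bot.2 (hinj ?_)
  rw [map_one]
  exact Subgroup.mem_bot.1 (disjoint_EP_KP.le_bot
    ⟨(mem_EG_iff hinj g).1 hg.1, Subgroup.mem_map_of_mem rep hg.2⟩)

theorem el_xy_mem {c : ℕ} (hc : c < 3) : el c ∈ K := by
  rw [K_eq]
  interval_cases c
  · exact Subgroup.subset_closure (by simp)
  · exact Subgroup.subset_closure (by simp)
  · rw [el_two, Subgroup.inv_mem_iff, ← el_one]
    exact Subgroup.subset_closure (by simp)

theorem gword_mem_K {w : List ℕ} (h : w.all (fun c => c.blt 3) = true) : gword el w ∈ K :=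
  CfsgLib.CosetEnum.gword_mem K el fun c hc =>
    el_xy_mem (Nat.le_of_ble_eq_true (List.all_eq_true.1 h c hc))

include hinj in
theorem same_el {p q : List ℕ} (h : sameOK p q = true) : gword el p = gword el q :=
  hinj (by rw [rep_gword_el, rep_gword_el]; exact same_spec h)

include hinj in
theorem eg_conj {i : ℕ} (hi : i < 11) :
    ∃ k ∈ K, k * eg 0 * k⁻¹ = eg i := by
  have h := List.all_eq_true.1 conjE_ok i (List.mem_range.2 hi)
  rw [Bool.and_eq_true] at h
  refine ⟨gword el (Tab.cwords.getD i []), gword_mem_K h.1, ?_⟩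
  have e := same_el hinj h.2
  rw [gword_app, gword_app] at e
  simp only [gword_cons, gword_nil, mul_one] at e
  rw [mul_inv_eq_iff_eq_mul]
  exact e

theorem phiN_mem {f : ℕ → J4} {S : Subgroup J4} (h : ∀ i < 11, f i ∈ S) :
    ∀ n ≤ 11, ∀ s, phiN f n s ∈ S
  | 0, _, _ => S.one_mem
  | n + 1, hn, s => by
    rw [phiN]
    refine S.mul_mem (phiN_mem h n (by omega) s) ?_
    split
    · exact h n (by omega)
    · exact S.one_mem

theorem eg_mem (i : ℕ) (hi : i < 11) : eg i ∈ EG hinj := ⟨2 ^ i, (phiN_pow eg 11 i hi).symm⟩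

theorem M_eq : M = EG hinj ⊔ K := by
  have hKM : K ≤ M := by
    rw [K_eq]; exact Subgroup.closure_mono (by intro a; simp; tauto)
  refine le_antisymm ?_ (sup_le ?_ hKM)
  · rw [M, Subgroup.closure_le]
    rintro a (rfl | rfl | rfl)
    · exact le_sup_right (a := EG hinj) (el_xy_mem (by norm_num))
    · exact le_sup_right (a := EG hinj) (el_xy_mem (by norm_num))
    · exact le_sup_left (b := K) (eg_mem hinj 0 (by norm_num))
  · rintro g ⟨s, rfl⟩
    refine phiN_mem (fun i hi => ?_) 11 le_rfl s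
    obtain ⟨k, hk, e⟩ := eg_conj hinj hi
    rw [← e]
    exact M.mul_mem (M.mul_mem (hKM hk) (Subgroup.subset_closure (by simp [eg]))) (M.inv_mem (hKM hk))

include hinj in
theorem conjX (s : ℕ) : el 0 * phiN eg 11 s = phiN eg 11 (linN Tab.xrow 11 s) * el 0 :=
  (invG hinj).conj (fun i hi => hinj (by
    rw [map_mul, map_mul, rep_eg, rep_phiN, rep_el]; exact conjXP hi)) 11 le_rfl s

include hinj in
theorem conjY (s : ℕ) : el 1 * phiN eg 11 s = phiN eg 11 (linN Tab.yrow 11 s) * el 1 :=
  (invG hinj).conj (fun i hi => hinj (by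
    rw [map_mul, map_mul, rep_eg, rep_phiN, rep_el]; exact conjYP hi)) 11 le_rfl s

theorem irreducible (D : Subgroup J4) (hDE : D ≤ EG hinj) (hne : D ≠ ⊥)
    (hinv : ∀ k ∈ K, ∀ d ∈ D, k * d * k⁻¹ ∈ D) : EG hinj ≤ D := by
  have hx : ∀ s, phiN eg 11 s ∈ D → phiN eg 11 (linN Tab.xrow 11 s) ∈ D := fun s hs => by
    have := hinv _ (el_xy_mem (c := 0) (by norm_num)) _ hs
    rwa [conjX hinj, mul_inv_cancel_right] at this
  have hy : ∀ s, phiN eg 11 s ∈ D → phiN eg 11 (linN Tab.yrow 11 s) ∈ D := fun s hs => by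
    have := hinv _ (el_xy_mem (c := 1) (by norm_num)) _ hs
    rwa [conjY hinj, mul_inv_cancel_right] at this
  have key : ∀ n s, rankOf s = n → 0 < s → s < 2048 → phiN eg 11 s ∈ D → eg 0 ∈ D := by
    intro n
    induction n using Nat.strong_induction_on with
    | _ n ih =>
      intro s hn h0 hs hmem
      by_cases h1 : s = 1
      · subst h1
        rwa [show (1 : ℕ) = 2 ^ 0 from rfl, phiN_pow eg 11 0 (by norm_num)] at hmem
      · have h := List.all_eq_true.1 irred_ok (s - 2) (List.mem_range.2 (by omega))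
        rw [Nat.sub_add_cancel (by omega : 2 ≤ s)] at h
        simp only [Bool.and_eq_true, Bool.or_eq_true, Bool.not_eq_true'] at h
        obtain ⟨⟨hu0, hlt⟩, hcase⟩ := h
        have hu : phiN eg 11 (nextOf s) ∈ D := by
          rcases hcase with ((h | h) | h) | h <;> rw [Nat.eq_of_beq_eq_true h]
          · exact hx s hmem
          · exact hy s hmem
          · rw [← (invG hinj).mulN 11 le_rfl]; exact D.mul_mem hmem (hx s hmem)
          · rw [← (invG hinj).mulN 11 le_rfl]; exact D.mul_mem hmem (hy s hmem)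
        refine ih _ (hn ▸ Nat.le_of_ble_eq_true hlt) (nextOf s) rfl
          (Nat.pos_of_ne_zero fun e => ?_) (Nat.mod_lt _ (by norm_num)) hu
        rw [e] at hu0
        exact Bool.noConfusion hu0
  obtain ⟨d, hd, hd1⟩ := (Subgroup.ne_bot_iff_exists_ne_one.1 hne : ∃ a : D, a ≠ 1).elim
    fun a ha => (⟨a.1, a.2, fun e => ha (Subtype.ext e)⟩ : ∃ d, d ∈ D ∧ d ≠ 1)
  obtain ⟨s, hs, rfl⟩ := (invG hinj).exists_lt (hDE hd)
  have h0 : eg 0 ∈ D := key _ s rfl
    (Nat.pos_of_ne_zero fun e => hd1 (by rw [e, phiN_one])) hs hd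
  rintro g ⟨u, rfl⟩
  refine phiN_mem (fun i hi => ?_) 11 le_rfl u
  obtain ⟨k, hk, e⟩ := eg_conj hinj hi
  exact e ▸ hinv k hk _ h0

theorem centralise_E (y : J4) (hy : y ∈ Subgroup.normalizer (EG hinj : Set J4))
    (hc : ∀ k ∈ K, ∀ v ∈ EG hinj, y * (k * v * k⁻¹) * y⁻¹ = k * (y * v * y⁻¹) * k⁻¹) :
    ∀ v ∈ EG hinj, y * v * y⁻¹ = v := by
  have hstab := stab_ok
  simp only [Bool.and_eq_true] at hstab
  obtain ⟨⟨⟨hw, hb1⟩, hb2⟩, hall⟩ := hstab
  rw [List.all_append, Bool.and_eq_true] at hw
  obtain ⟨s, hs, hv⟩ := (invG hinj).exists_lt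
    ((Subgroup.mem_normalizer_iff.1 hy (eg 0)).1 (eg_mem hinj 0 (by norm_num)))
  have hconj : ∀ (w r : List ℕ), w.all (fun c => c.blt 3) = true →
      (∀ i < 11, r.getD i 0 < 2 ^ 11) →
      (∀ i < 11, sameOK (w ++ [4 + i]) (esel (r.getD i 0) ++ w) = true) →
      Nat.beq (linN r 11 1) 1 = true → linN r 11 s = s := by
    intro w r hwK hr hrow h1
    have hk := gword_mem_K hwK
    have hcj : ∀ u, gword el w * phiN eg 11 u = phiN eg 11 (linN r 11 u) * gword el w := fun u =>
      (invG hinj).conj (fun i hi => hinj (by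
        have := same_spec (hrow i hi)
        rw [gword_app, gword_app, gword_esel] at this
        rw [map_mul, map_mul, rep_eg, rep_phiN, rep_gword_el]
        show gword pm w * pm (4 + i) = phiN (fun i => pm (4 + i)) 11 _ * gword pm w
        simpa [gword_cons, gword_nil] using this)) 11 le_rfl u
    have he : gword el w * eg 0 * (gword el w)⁻¹ = eg 0 := by
      have := hcj 1
      rw [Nat.eq_of_beq_eq_true h1, show (1 : ℕ) = 2 ^ 0 from rfl,
        phiN_pow eg 11 0 (by norm_num)] at this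
      rw [this, mul_inv_cancel_right]
    have hfix : gword el w * (y * eg 0 * y⁻¹) * (gword el w)⁻¹ = y * eg 0 * y⁻¹ := by
      rw [← hc _ hk _ (eg_mem hinj 0 (by norm_num)), he]
    rw [hv, hcj, mul_inv_cancel_right] at hfix
    have hlt : linN r 11 s % 2 ^ 11 < 2048 := Nat.mod_lt _ (by norm_num)
    have hmod : phiN eg 11 (linN r 11 s % 2 ^ 11) = phiN eg 11 (linN r 11 s) :=
      phiN_congr eg 11 fun i hi => by rw [Nat.testBit_mod_two_pow]; simp [hi]
    have e := (invG hinj).inj (fun u h0 h2 e => indepP h0 h2 (by rw [← rep_phiN, e, map_one]))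
      hlt hs (hmod.trans hfix)
    have hsz : linN r 11 s < 2048 := linN_lt hr 11 le_rfl s
    rwa [Nat.mod_eq_of_lt (show linN r 11 s < 2 ^ 11 from hsz)] at e
  have h1 := hconj Tab.stab1 Tab.stab1row hw.1 (by decide +kernel) (fun i hi => by
    have := List.all_eq_true.1 stabConj_ok i (List.mem_range.2 hi)
    rw [Bool.and_eq_true] at this; exact this.1) hb1
  have h2 := hconj Tab.stab2 Tab.stab2row hw.2 (by decide +kernel) (fun i hi => by
    have := List.all_eq_true.1 stabConj_ok i (List.mem_range.2 hi)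
    rw [Bool.and_eq_true] at this; exact this.2) hb2
  have h := List.all_eq_true.1 hall s (List.mem_range.2 hs)
  simp only [Bool.or_eq_true, Bool.not_eq_true'] at h
  rw [h1, h2, Nat.beq_refl] at h
  have hle : s ≤ 1 := Nat.le_of_ble_eq_true (by simpa using h)
  have he0 : y * eg 0 * y⁻¹ = eg 0 := by
    rcases Nat.le_one_iff_eq_zero_or_eq_one.1 hle with rfl | rfl
    · exfalso
      rw [phiN_one, mul_inv_eq_one, mul_eq_left] at hv
      exact indepP (s := 1) one_pos (by norm_num) (by
        rw [← rep_phiN, show (1 : ℕ) = 2 ^ 0 from rfl, phiN_pow eg 11 0 (by norm_num), hv, map_one])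
    · rw [hv, show (1 : ℕ) = 2 ^ 0 from rfl, phiN_pow eg 11 0 (by norm_num)]
  have hle' : EG hinj ≤ Subgroup.centralizer ({y} : Set J4) := by
    rintro g ⟨u, rfl⟩
    refine phiN_mem (fun i hi => ?_) 11 le_rfl u
    obtain ⟨k, hk, e⟩ := eg_conj hinj hi
    have := hc k hk _ (eg_mem hinj 0 (by norm_num))
    rw [he0, e] at this
    rw [Subgroup.mem_centralizer_singleton_iff]
    exact (mul_inv_eq_iff_eq_mul.1 this).symm
  intro v hv'
  rw [← Subgroup.mem_centralizer_singleton_iff.1 (hle' hv'), mul_inv_cancel_right]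

/-- vectors fixed by an element form a subspace -/
theorem rep_xor (g : J4) : ∀ u v : Vec, (rep g ⟨u.1 ^^^ v.1, Nat.xor_lt_two_pow u.2 v.2⟩ : ℕ) =
    (rep g u).1 ^^^ (rep g v).1 := by
  have hg : g ∈ Subgroup.closure (Set.range PresentedGroup.of) := by simp
  induction hg using Subgroup.closure_induction with
  | mem a ha =>
    obtain ⟨a, rfl⟩ := ha
    intro u v
    have e : rep (PresentedGroup.of a) = gword val [enc a] := by
      rw [rep, PresentedGroup.toGroup.of, gword_cons, gword_nil, mul_one]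
    have hlt : ∀ c ∈ [enc a], c < 6 := by cases a <;> simp [enc]
    rw [e, gword_val _ hlt, gword_val _ hlt, gword_val _ hlt]
    exact act_xor _ _ _
  | one => intro u v; simp
  | mul a b _ _ iha ihb =>
    intro u v
    simp only [map_mul, Equiv.Perm.mul_apply]
    rw [← iha (rep b u) (rep b v)]
    exact congrArg (fun z => ((rep a) z).1) (Subtype.ext (ihb u v))
  | inv a _ ih =>
    intro u v
    have := ih ((rep a)⁻¹ u) ((rep a)⁻¹ v)
    simp only [Equiv.Perm.coe_inv, Equiv.apply_symm_apply] at this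
    have e : (⟨u.1 ^^^ v.1, Nat.xor_lt_two_pow u.2 v.2⟩ : Vec) =
        rep a ⟨((rep a)⁻¹ u).1 ^^^ ((rep a)⁻¹ v).1,
          Nat.xor_lt_two_pow ((rep a)⁻¹ u).2 ((rep a)⁻¹ v).2⟩ := Subtype.ext this.symm
    rw [map_inv, e, Equiv.Perm.coe_inv, Equiv.symm_apply_apply]

/-- the vector fixed by `M` -/
noncomputable def v0 : Vec := ⟨Tab.v0, by
  have h := fix_ok
  simp only [Bool.and_eq_true] at h
  exact Nat.le_of_ble_eq_true h.1.1.2⟩

theorem fixes_v0 {k : ℕ} (hk : k ∈ [0, 1, 4]) : rep (el k) v0 = v0 := by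
  have h := fix_ok
  simp only [Bool.and_eq_true] at h
  have h0 := List.all_eq_true.1 h.1.2 k hk
  refine Subtype.ext ?_
  have hk' : ∀ c ∈ [k], c < 21 := by simp at hk ⊢; omega
  have := tact_spec hk' v0
  rw [gword_cons, gword_nil, mul_one, ← rep_el] at this
  exact this.trans (Nat.eq_of_beq_eq_true h0)

/-- an element fixing every vector moved from `v₀` by the spanning words is trivial -/
theorem eq_one_of_fixes (z : J4) (hinj : Function.Injective rep)
    (h : ∀ g : J4, rep z (rep g v0) = rep g v0) : z = 1 := by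
  let S : Set ℕ := {u | ∃ hu : u < 2 ^ 112, (rep z ⟨u, hu⟩).1 = u}
  have h00 : (0 : ℕ) ∈ S := ⟨by norm_num, by
    have := rep_xor z v0 v0
    simp only [Nat.xor_self] at this
    exact this⟩
  have hxor : ∀ a b, a ∈ S → b ∈ S → a ^^^ b ∈ S := fun a b ⟨ha, ea⟩ ⟨hb, eb⟩ =>
    ⟨Nat.xor_lt_two_pow ha hb, by
      have := rep_xor z ⟨a, ha⟩ ⟨b, hb⟩
      rw [ea, eb] at this; exact this⟩
  have hcomb : ∀ (l : List ℕ), (∀ v ∈ l, v ∈ S) → ∀ m, combine l m ∈ S := by
    intro l
    induction l with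
    | nil => intro _ _; exact h00
    | cons v l ih =>
      intro hl m
      rw [combine]
      refine hxor _ _ ?_ (ih (fun a ha => hl a (List.mem_cons_of_mem _ ha)) _)
      split
      · exact hl v List.mem_cons_self
      · exact h00
  have hs := span_ok
  simp only [Bool.and_eq_true, List.all_eq_true, List.mem_range] at hs
  have himg : ∀ v ∈ spanImages, v ∈ S := by
    intro v hv
    obtain ⟨w, hw, rfl⟩ := List.mem_map.1 hv
    have hw' : ∀ c ∈ w, c < 21 := fun c hc => Nat.le_of_ble_eq_true (hs.1 w hw c hc)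
    have e := tact_spec hw' v0
    refine ⟨e ▸ (gword pm w v0).2, ?_⟩
    have h2 := h (gword el w)
    rw [rep_gword_el] at h2
    have e2 : (⟨tact w Tab.v0, e ▸ (gword pm w v0).2⟩ : Vec) = gword pm w v0 := Subtype.ext e.symm
    rw [e2, h2]
    exact e
  refine hinj (Equiv.ext fun u => Subtype.ext ?_)
  rw [map_one]
  let f : ℕ → ℕ := fun a => if ha : a < 2 ^ 112 then (rep z ⟨a, ha⟩).1 else 0
  show _ = u.1
  have hall : ∀ n ≤ 112, ∀ a < 2 ^ n, a ∈ S := by
    intro n
    induction n with
    | zero => intro _ a ha; rw [show a = 0 by simpa using ha]; exact h00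
    | succ n ih =>
      intro hn a ha
      by_cases hlt : a < 2 ^ n
      · exact ih (by omega) a hlt
      · have hb : a.testBit n = true := by
          rw [Nat.testBit_eq_decide_div_mod_eq, decide_eq_true_eq]
          rw [Nat.div_eq_of_lt_le (k := 1) (by omega) (by rw [pow_succ] at ha; omega)]
        have h2 : a ^^^ 2 ^ n < 2 ^ n := Nat.lt_pow_two_of_testBit _ fun i hi => by
          rw [Nat.testBit_xor]
          rcases eq_or_lt_of_le hi with rfl | h'
          · simp [hb]
          · rw [Nat.testBit_eq_false_of_lt (lt_of_lt_of_le ha (Nat.pow_le_pow_right Nat.two_pos h'))]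
            simp [Nat.ne_of_lt h']
        have hp : 2 ^ n ∈ S := by
          rw [← Nat.eq_of_beq_eq_true (hs.2 n (by omega))]
          exact hcomb _ himg _
        have := hxor _ _ (ih (by omega) _ h2) hp
        rwa [Nat.xor_assoc, Nat.xor_self, Nat.xor_zero] at this
  obtain ⟨hu, e⟩ := hall 112 le_rfl u.1 u.2
  exact e

/-- the only vectors fixed by `x`, `y` and the first basis element are `0` and `v₀` -/
theorem fixed_cases (u : Vec) (h : ∀ k ∈ [0, 1, 4], rep (el k) u = u) :
    u.1 = 0 ∨ u = v0 := by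
  have hf := fix_ok
  simp only [Bool.and_eq_true] at hf
  obtain ⟨⟨⟨⟨⟨⟨a0, a1⟩, a2⟩, hbit⟩, -⟩, -⟩, hid⟩ := hf
  have hk : ∀ k ∈ [0, 1, 4], tact [k] u.1 = u.1 := fun k hk => by
    have hk' : ∀ c ∈ [k], c < 21 := by simp at hk ⊢; omega
    have := tact_spec hk' u
    rw [gword_cons, gword_nil, mul_one, ← rep_el, h k hk] at this
    exact this.symm
  have hlin : ∀ (T : List ℕ), addOK T = true → vm T 0 = 0 := fun T hT => by
    have := vm_xor T hT 0 0
    simp at this
    exact this
  have e : fixInv u.1 = u.1 := by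
    refine eq_self_of_basis fixInv (fun a b => ?_) 112
      (fun i hi => Nat.eq_of_beq_eq_true (List.all_eq_true.1 hid i (List.mem_range.2 hi))) u.1 u.2
    have t : ∀ k ∈ [0, 1, 4], tact [k] (a ^^^ b) ^^^ (a ^^^ b) =
        (tact [k] a ^^^ a) ^^^ (tact [k] b ^^^ b) := fun k hk => by
      rw [tact_xor (by simp at hk ⊢; omega)]
      apply Nat.eq_of_testBit_eq
      intro i
      simp only [Nat.testBit_xor]
      cases (tact [k] a).testBit i <;> cases (tact [k] b).testBit i <;> cases a.testBit i <;>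
        cases b.testBit i <;> rfl
    simp only [fixInv]
    rw [t 0 (by simp), t 1 (by simp), t 4 (by simp), vm_xor _ a0, vm_xor _ a1, vm_xor _ a2,
      Nat.testBit_xor]
    cases a.testBit Tab.bit <;> cases b.testBit Tab.bit <;>
      (apply Nat.eq_of_testBit_eq; intro i; simp [Nat.testBit_xor]) <;>
      (cases (vm Tab.p0 (tact [0] a ^^^ a)).testBit i <;>
        cases (vm Tab.p0 (tact [0] b ^^^ b)).testBit i <;>
        cases (vm Tab.p1 (tact [1] a ^^^ a)).testBit i <;>
        cases (vm Tab.p1 (tact [1] b ^^^ b)).testBit i <;>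
        cases (vm Tab.p2 (tact [4] a ^^^ a)).testBit i <;>
        cases (vm Tab.p2 (tact [4] b ^^^ b)).testBit i <;>
        cases Tab.v0.testBit i <;> rfl)
  simp only [fixInv, hk 0 (by simp), hk 1 (by simp), hk 4 (by simp), Nat.xor_self,
    hlin _ a0, hlin _ a1, hlin _ a2, Nat.zero_xor] at e
  split at e
  · exact Or.inr (Subtype.ext e.symm)
  · exact Or.inl e.symm

include hinj in
theorem central_trivial (N : Subgroup J4) (hN : N.Normal)
    (hc : ∀ k ∈ K, ∀ z ∈ N, k * z = z * k) : N = ⊥ := by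
  rw [eq_bot_iff]
  intro z hz
  have h1 : (MulAut.conjNormal : J4 →* MulAut N) = 1 := by
    refine hom_trivial _ ?_ ?_ <;>
    · refine MulEquiv.ext fun v => Subtype.ext ?_
      rw [MulAut.conjNormal_apply, MulAut.one_apply, hc _ (el_xy_mem (by norm_num)) _ v.2,
        mul_inv_cancel_right]
  have hcomm : ∀ g : J4, g * z = z * g := fun g => by
    have := congrArg Subtype.val (DFunLike.congr_fun (DFunLike.congr_fun h1 g) ⟨z, hz⟩)
    rw [MulAut.conjNormal_apply] at this
    exact mul_inv_eq_iff_eq_mul.1 this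
  have hzv : rep z v0 = v0 := by
    rcases fixed_cases (rep z v0) (fun k hk => by
      rw [← Equiv.Perm.mul_apply, ← map_mul, hcomm, map_mul, Equiv.Perm.mul_apply,
        fixes_v0 hk]) with h | h
    · exfalso
      have h0 : (⟨0, by norm_num⟩ : Vec) = rep z ⟨0, by norm_num⟩ := by
        have := rep_xor z v0 v0
        simp only [Nat.xor_self] at this
        exact Subtype.ext this.symm
      have h' : rep z v0 = rep z ⟨0, by norm_num⟩ := (Subtype.ext h : rep z v0 = ⟨0, _⟩).trans h0
      have hv := congrArg Subtype.val ((rep z).injective h')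
      have hf := fix_ok
      simp only [Bool.and_eq_true] at hf
      have hb := hf.1.1.1.2
      rw [show Tab.v0 = 0 from hv, Nat.zero_testBit] at hb
      exact Bool.noConfusion hb
    · exact h
  refine Subgroup.mem_bot.2 (eq_one_of_fixes z hinj fun g => ?_)
  rw [← Equiv.Perm.mul_apply, ← map_mul, ← hcomm, map_mul, Equiv.Perm.mul_apply, hzv]

include hinj in
theorem not_normal : ¬ (EG hinj).Normal := by
  intro hn
  have hz : ∀ g : J4, rep (eg 0) (rep g v0) = rep g v0 := by
    intro g
    have hm : g⁻¹ * eg 0 * g ∈ EG hinj := by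
      have := hn.conj_mem _ (eg_mem hinj 0 (by norm_num)) g⁻¹
      simpa using this
    have hfix : ∀ a ∈ EG hinj, rep a v0 = v0 := by
      intro a ha
      have hs : EG hinj ≤ (MulAction.stabilizer (Equiv.Perm Vec) v0).comap rep := by
        refine le_trans ((M_eq hinj).ge.trans' le_sup_left) ?_
        rw [M, Subgroup.closure_le]
        rintro a (rfl | rfl | rfl) <;> exact fixes_v0 (by simp)
      exact hs ha
    have := hfix _ hm
    rw [map_mul, map_mul, map_inv, Equiv.Perm.mul_apply, Equiv.Perm.mul_apply,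
      Equiv.Perm.inv_eq_iff_eq] at this
    exact this
  have := eq_one_of_fixes (eg 0) hinj hz
  exact indepP (s := 1) one_pos (by norm_num) (by
    rw [← rep_phiN, show (1 : ℕ) = 2 ^ 0 from rfl, phiN_pow eg 11 0 (by norm_num), this, map_one])

include hinj in
theorem isSimple_J4 [Finite J4] (hcard : Nat.card J4 = order) : IsSimpleGroup J4 := by
  haveI := isSimple_K
  refine isSimple (K := K) (E := EG hinj) (K_le hinj) (card_EG hinj) card_K (disjoint_EG hinj)
    hcard (invG hinj).group_comm ?_ (central_trivial hinj) (irreducible hinj)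
    (centralise_E hinj) (not_normal hinj)
  intro N hN hKN
  have h := hom_trivial (QuotientGroup.mk' N)
    ((QuotientGroup.eq_one_iff _).2 (hKN (el_xy_mem (by norm_num))))
    ((QuotientGroup.eq_one_iff _).2 (hKN (el_xy_mem (by norm_num))))
  exact (Subgroup.eq_top_iff' N).2 fun g =>
    (QuotientGroup.eq_one_iff _).1 (DFunLike.congr_fun h g)

end

end CfsgLib.J4Main61
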