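import Cfsg.Agent.J4Main61.Named

/-!
Each matrix agrees with its word.
-/

set_option autoImplicit false
set_option maxRecDepth 100000
set_option Elab.async false

namespace CfsgLib.J4Main61

theorem tab0_ok : tabOK 0 = true := by decide +kernel

theorem tab1_ok : tabOK 1 = true := by decide +kernel

theorem tab2_ok : tabOK 2 = true := by decide +kernel

theorem tab3_ok : tabOK 3 = true := by decide +kernel

theorem tab4_ok : tabOK 4 = true := by decide +kernel

theorem tab5_ok : tabOK 5 = true := by decide +kernel

theorem tab6_ok : tabOK 6 = true := by decide +kernel

theorem tab7_ok : tabOK 7 = true := by decide +kernel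

theorem tab8_ok : tabOK 8 = true := by decide +kernel

theorem tab9_ok : tabOK 9 = true := by decide +kernel

end CfsgLib.J4Main61
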