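import Cfsg.Agent.J4Main61.Named

/-!
Each matrix agrees with its word.
-/

set_option autoImplicit false
set_option maxRecDepth 100000
set_option Elab.async false

namespace CfsgLib.J4Main61

theorem tab10_ok : tabOK 10 = true := by decide +kernel

theorem tab11_ok : tabOK 11 = true := by decide +kernel

theorem tab12_ok : tabOK 12 = true := by decide +kernel

theorem tab13_ok : tabOK 13 = true := by decide +kernel

theorem tab14_ok : tabOK 14 = true := by decide +kernel

theorem tab15_ok : tabOK 15 = true := by decide +kernel

theorem tab16_ok : tabOK 16 = true := by decide +kernel

theorem tab17_ok : tabOK 17 = true := by decide +kernel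

theorem tab18_ok : tabOK 18 = true := by decide +kernel

theorem tab19_ok : tabOK 19 = true := by decide +kernel

theorem tab20_ok : tabOK 20 = true := by decide +kernel

end CfsgLib.J4Main61
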