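import Cfsg.Agent.J4Main61.TabA
import Cfsg.Agent.J4Main61.TabB

/-!
Products of named elements compared through their matrices.
-/

set_option autoImplicit false
set_option maxRecDepth 100000
set_option Elab.async false

namespace CfsgLib.J4Main61

open Cfsg.Spor CfsgLib.CosetEnum CfsgLib.J4Rep112

theorem tabs_ok : ∀ k < 21, tabOK k = true := by
  intro k hk
  interval_cases k
  exacts [tab0_ok, tab1_ok, tab2_ok, tab3_ok, tab4_ok, tab5_ok, tab6_ok, tab7_ok, tab8_ok, tab9_ok, tab10_ok, tab11_ok, tab12_ok, tab13_ok, tab14_ok, tab15_ok, tab16_ok, tab17_ok, tab18_ok, tab19_ok, tab20_ok]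

theorem eq_on_basis {f g : ℕ → ℕ} (hf : ∀ a b, f (a ^^^ b) = f a ^^^ f b)
    (hg : ∀ a b, g (a ^^^ b) = g a ^^^ g b) (h : ∀ i < 112, f (2 ^ i) = g (2 ^ i))
    {v : ℕ} (hv : v < 2 ^ 112) : f v = g v := by
  have := eq_self_of_basis (fun u => f u ^^^ g u ^^^ u)
    (fun a b => by
      simp only [hf, hg]
      apply Nat.eq_of_testBit_eq
      intro i
      simp only [Nat.testBit_xor]
      cases (f a).testBit i <;> cases (f b).testBit i <;> cases (g a).testBit i <;>
        cases (g b).testBit i <;> cases a.testBit i <;> cases b.testBit i <;> rfl)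
    112 (fun i hi => by simp [h i hi]) v hv
  have h2 : f v ^^^ g v = 0 := by
    have := congrArg (fun u => u ^^^ v) this
    simpa [Nat.xor_assoc] using this
  exact Nat.xor_eq_zero_iff.1 h2

theorem tab_spec {k : ℕ} (hk : k < 21) : addOK (Tab.gtabs.getD k []) = true ∧
    ∀ v : Vec, (pm k v : ℕ) = vm (Tab.gtabs.getD k []) v.1 := by
  have h := tabs_ok k hk
  simp only [tabOK, Bool.and_eq_true, List.all_eq_true, List.mem_range] at h
  refine ⟨h.1.1, fun v => ?_⟩
  have hw : ∀ c ∈ Tab.gwords.getD k [], c < 6 := fun c hc => Nat.le_of_ble_eq_true (h.1.2 c hc)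
  rw [pm, gword_val _ hw]
  exact (eq_on_basis (vm_xor _ h.1.1) (act_xor _)
    (fun i hi => Nat.eq_of_beq_eq_true (h.2 i hi)) v.2).symm

theorem tact_spec : ∀ {is : List ℕ}, (∀ k ∈ is, k < 21) → ∀ v : Vec,
    (gword pm is v : ℕ) = tact is v.1
  | [], _, _ => rfl
  | k :: is, h, v => by
    rw [gword_cons, Equiv.Perm.mul_apply, (tab_spec (h k List.mem_cons_self)).2,
      tact_spec (fun d hd => h d (List.mem_cons_of_mem _ hd))]
    rfl

theorem tact_xor : ∀ {is : List ℕ}, (∀ k ∈ is, k < 21) → ∀ a b : ℕ,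
    tact is (a ^^^ b) = tact is a ^^^ tact is b
  | [], _, _, _ => rfl
  | k :: is, h, a, b => by
    show vm _ _ = _
    rw [tact_xor (fun d hd => h d (List.mem_cons_of_mem _ hd)),
      vm_xor _ (tab_spec (h k List.mem_cons_self)).1]
    rfl

theorem same_spec {p q : List ℕ} (h : sameOK p q = true) : gword pm p = gword pm q := by
  simp only [sameOK, Bool.and_eq_true, List.all_eq_true, List.mem_range] at h
  have hp : ∀ k ∈ p, k < 21 := fun c hc => Nat.le_of_ble_eq_true (h.1.1 c hc)
  have hq : ∀ k ∈ q, k < 21 := fun c hc => Nat.le_of_ble_eq_true (h.1.2 c hc)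
  refine Equiv.ext fun v => Subtype.ext ?_
  rw [tact_spec hp, tact_spec hq]
  exact eq_on_basis (tact_xor hp) (tact_xor hq) (fun i hi => Nat.eq_of_beq_eq_true (h.2 i hi)) v.2

theorem moves_spec {p : List ℕ} {v : ℕ} (h : movesOK p v = true) : gword pm p ≠ 1 := by
  simp only [movesOK, Bool.and_eq_true, List.all_eq_true, Bool.not_eq_true'] at h
  have hp : ∀ k ∈ p, k < 21 := fun c hc => Nat.le_of_ble_eq_true (h.1.1 c hc)
  intro e
  have := tact_spec hp ⟨v, Nat.le_of_ble_eq_true h.1.2⟩
  rw [e] at this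
  change v = tact p v at this
  rw [← this, Nat.beq_refl] at h
  exact Bool.noConfusion h.2

end CfsgLib.J4Main61
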